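import Mathlib

/-!
Products over orbits of an operator `p`-group acting on a finite set.
-/

set_option autoImplicit false
set_option linter.style.haveILetI false

namespace Cfsg.Agent.WeakClosure

variable {R Ω V : Type*} [Group R] [MulAction R Ω] [Fintype Ω] [CommGroup V]

open scoped Classical in
/-- The orbit of `ω` under the subgroup `K`, as a finite set. -/
noncomputable def orbSet (K : Subgroup R) (ω : Ω) : Finset Ω :=
  Finset.univ.filter (fun η => η ∈ MulAction.orbit K ω)

theorem mem_orbSet {K : Subgroup R} {ω η : Ω} : η ∈ orbSet K ω ↔ η ∈ MulAction.orbit K ω := by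
  classical
  simp [orbSet]

/-- The product of `f` over the orbit of `ω` under the subgroup `K`. -/
noncomputable def orbProd (K : Subgroup R) (f : Ω → V) (ω : Ω) : V := ∏ η ∈ orbSet K ω, f η

theorem map_orbProd {f : Ω → V} (θ : R →* MulAut V) (heq : ∀ (r : R) η, f (r • η) = θ r (f η))
    (K : Subgroup R) (ω : Ω) {k : R} (hk : k ∈ K) : θ k (orbProd K f ω) = orbProd K f ω := by
  classical
  unfold orbProd
  rw [map_prod]
  refine Finset.prod_nbij (fun η => k • η) ?_ ?_ ?_ fun η _ => (heq k η).symm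
  · intro η hη
    rw [mem_orbSet] at hη ⊢
    exact MulAction.mem_orbit_of_mem_orbit (⟨k, hk⟩ : K) hη
  · intro η _ ξ _ h
    exact (MulAction.injective k) h
  · intro η hη
    rw [Finset.mem_coe, mem_orbSet] at hη
    refine ⟨k⁻¹ • η, ?_, smul_inv_smul k η⟩
    rw [Finset.mem_coe, mem_orbSet]
    exact MulAction.mem_orbit_of_mem_orbit (⟨k⁻¹, K.inv_mem hk⟩ : K) hη

theorem prod_powers_eq_pow {p : ℕ} [hp : Fact p.Prime] (hp2 : p ≠ 2) (φ : MulAut V) {u d : V}
    (hu : φ u = d * u) (hd : φ d = d) (hφ : (φ ^ p) u = u) :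
    ∏ i ∈ Finset.range p, (φ ^ i) u = u ^ p := by
  have key : ∀ i : ℕ, (φ ^ i) u = d ^ i * u := by
    intro i
    induction i with
    | zero => simp
    | succ i ih =>
      rw [pow_succ', MulAut.mul_apply, ih, map_mul, map_pow, hd, hu, pow_succ, mul_assoc]
  have hdp : d ^ p = 1 := by
    have := key p
    rw [hφ] at this
    exact mul_eq_right.mp this.symm
  rw [Finset.prod_congr rfl fun i _ => key i, Finset.prod_mul_distrib, Finset.prod_const,
    Finset.card_range, Finset.prod_pow_eq_pow_sum, Finset.sum_range_id]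
  have hodd : Odd p := hp.out.odd_of_ne_two hp2
  obtain ⟨k, hk⟩ := hodd
  have : p * (p - 1) / 2 = p * k := by
    rw [hk, Nat.add_sub_cancel, show (2 * k + 1) * (2 * k) = (2 * k + 1) * k * 2 by ring,
      Nat.mul_div_cancel _ (by norm_num)]
  rw [this, pow_mul, hdp, one_pow, one_mul]

variable [Finite R] {p : ℕ} [hp : Fact p.Prime]

/-- An orbit splitting into `p` orbits of a normal subgroup of index `p`. -/
theorem orbit_step {f : Ω → V} (θ : R →* MulAut V) (heq : ∀ (r : R) η, f (r • η) = θ r (f η))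
    {x c : V} (hxc : x ^ p = c) (hf : ∀ η, f η ^ p = c) (ω : Ω) (K : Subgroup R) [K.Normal]
    (hK : MulAction.stabilizer R ω ≤ K) (hidx : K.index = p) {a : R} (ha : a ∉ K)
    (hgood : ∏ i ∈ Finset.range p, θ (a ^ i) (orbProd K f ω) = orbProd K f ω ^ p) :
    orbProd (⊤ : Subgroup R) f ω = x ^ (orbSet (⊤ : Subgroup R) ω).card := by
  classical
  set O := orbSet (⊤ : Subgroup R) ω
  set OK := orbSet K ω
  have hcard : Nat.card (R ⧸ K) = p := hidx
  have hord : orderOf (QuotientGroup.mk' K a) = p := by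
    rcases hp.out.eq_one_or_self_of_dvd _ (hcard ▸ orderOf_dvd_natCard (QuotientGroup.mk' K a)) with h | h
    · exact absurd ((QuotientGroup.eq_one_iff a).mp (orderOf_eq_one_iff.mp h)) ha
    · exact h
  have hgen : ∀ r : R, ∃ i < p, (a ^ i)⁻¹ * r ∈ K := by
    intro r
    have : QuotientGroup.mk' K r ∈ Subgroup.zpowers (QuotientGroup.mk' K a) :=
      mem_zpowers_of_prime_card hcard (fun h => ha ((QuotientGroup.eq_one_iff a).mp h))
    rw [← mem_powers_iff_mem_zpowers, mem_powers_iff_mem_range_orderOf, Finset.mem_image] at this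
    obtain ⟨i, hi, hir⟩ := this
    refine ⟨i, by rw [Finset.mem_range, hord] at hi; exact hi, (QuotientGroup.eq_one_iff _).mp ?_⟩
    show QuotientGroup.mk' K ((a ^ i)⁻¹ * r) = 1
    rw [map_mul, map_inv, map_pow, hir, inv_mul_cancel]
  have hbij : Finset.prod (Finset.range p ×ˢ OK) (fun q => f (a ^ q.1 • q.2)) = ∏ η ∈ O, f η ∧
      (Finset.range p ×ˢ OK).card = O.card := by
    have hto : ∀ q ∈ Finset.range p ×ˢ OK, a ^ q.1 • q.2 ∈ O := by
      intro q hq
      rw [Finset.mem_product, mem_orbSet] at hq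
      obtain ⟨k, hk⟩ := hq.2
      rw [mem_orbSet]
      refine ⟨⟨a ^ q.1 * k, Subgroup.mem_top _⟩, ?_⟩
      show (a ^ q.1 * (k : R)) • ω = _
      rw [mul_smul]; exact congrArg _ hk
    have hinj : Set.InjOn (fun q : ℕ × Ω => a ^ q.1 • q.2) ↑(Finset.range p ×ˢ OK) := by
      rintro ⟨i, η⟩ hq ⟨j, ξ⟩ hr h
      rw [Finset.mem_coe, Finset.mem_product, mem_orbSet, Finset.mem_range] at hq hr
      obtain ⟨k, rfl⟩ := hq.2
      obtain ⟨l, rfl⟩ := hr.2
      simp only at h
      change a ^ i • ((k : R) • ω) = a ^ j • ((l : R) • ω) at h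
      have hst : (a ^ j * l)⁻¹ * (a ^ i * k) ∈ K := hK (by
        rw [MulAction.mem_stabilizer_iff, mul_smul, mul_smul, h, ← mul_smul (a ^ j), inv_smul_smul])
      have e : QuotientGroup.mk' K (a ^ i) = QuotientGroup.mk' K (a ^ j) := by
        have h2 : QuotientGroup.mk' K ((a ^ j * l)⁻¹ * (a ^ i * k)) = 1 :=
          (QuotientGroup.eq_one_iff _).mpr hst
        have hk : QuotientGroup.mk' K (k : R) = 1 := (QuotientGroup.eq_one_iff _).mpr k.2
        have hl : QuotientGroup.mk' K (l : R) = 1 := (QuotientGroup.eq_one_iff _).mpr l.2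
        rw [map_mul, map_inv, map_mul, map_mul, hk, hl, mul_one, mul_one] at h2
        exact (inv_mul_eq_one.mp h2).symm
      rw [map_pow, map_pow] at e
      have hij : i = j := pow_injOn_Iio_orderOf (by rw [hord]; exact hq.1) (by rw [hord]; exact hr.1) e
      subst hij
      have h3 : (k : R) • ω = (l : R) • ω := MulAction.injective (a ^ i) h
      exact Prod.ext rfl h3
    have hsurj : Set.SurjOn (fun q : ℕ × Ω => a ^ q.1 • q.2) ↑(Finset.range p ×ˢ OK) ↑O := by
      intro η hη
      rw [Finset.mem_coe, mem_orbSet] at hη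
      obtain ⟨r, hr⟩ := hη
      obtain ⟨i, hi, hir⟩ := hgen r
      refine ⟨(i, ((a ^ i)⁻¹ * (r : R)) • ω), ?_, ?_⟩
      · rw [Finset.mem_coe, Finset.mem_product, mem_orbSet, Finset.mem_range]
        exact ⟨hi, ⟨⟨_, hir⟩, rfl⟩⟩
      · show a ^ i • (((a ^ i)⁻¹ * (r : R)) • ω) = η
        rw [← mul_smul, mul_inv_cancel_left]; exact hr
    exact ⟨Finset.prod_nbij (fun q => a ^ q.1 • q.2) hto hinj hsurj fun _ _ => rfl,
      Finset.card_nbij (fun q => a ^ q.1 • q.2) hto hinj hsurj⟩
  show ∏ η ∈ O, f η = x ^ O.card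
  rw [← hbij.1, ← hbij.2, Finset.prod_product, Finset.card_product, Finset.card_range]
  have : ∀ i : ℕ, ∏ η ∈ OK, f (a ^ i • η) = θ (a ^ i) (orbProd K f ω) := by
    intro i
    rw [orbProd, map_prod]
    exact Finset.prod_congr rfl fun η _ => heq _ η
  rw [Finset.prod_congr rfl fun i _ => this i, hgood, orbProd, ← Finset.prod_pow,
    Finset.prod_congr rfl fun η _ => hf η, Finset.prod_const, pow_mul, hxc]

/-- Assembling the orbits. -/
theorem prod_eq_pow {f : Ω → V} {x : V}
    (h : ∀ ω, orbProd (⊤ : Subgroup R) f ω = x ^ (orbSet (⊤ : Subgroup R) ω).card) :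
    ∏ η, f η = x ^ Fintype.card Ω := by
  classical
  have key : ∀ O : Finset Ω, (∀ ω ∈ O, ∀ η ∈ MulAction.orbit (⊤ : Subgroup R) ω, η ∈ O) →
      ∏ η ∈ O, f η = x ^ O.card := by
    intro O
    induction O using Finset.strongInduction with
    | H O ih =>
      intro hO
      rcases O.eq_empty_or_nonempty with rfl | ⟨ω, hω⟩
      · simp
      · set B := orbSet (⊤ : Subgroup R) ω with hB
        have hBO : B ⊆ O := fun η hη => hO ω hω η (mem_orbSet.mp hη)
        have hωB : ω ∈ B := mem_orbSet.mpr (MulAction.mem_orbit_self ω)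
        have hlt : O \ B ⊂ O := Finset.sdiff_ssubset hBO ⟨ω, hωB⟩
        have hinv : ∀ ξ ∈ O \ B, ∀ η ∈ MulAction.orbit (⊤ : Subgroup R) ξ, η ∈ O \ B := by
          intro ξ hξ η hη
          rw [Finset.mem_sdiff] at hξ ⊢
          refine ⟨hO ξ hξ.1 η hη, fun hηB => hξ.2 ?_⟩
          rw [hB, mem_orbSet] at hηB ⊢
          exact (MulAction.orbit_eq_iff.mpr hηB) ▸
            MulAction.mem_orbit_symm.mp hη
        rw [← Finset.prod_sdiff hBO, ih _ hlt hinv, show ∏ η ∈ B, f η = x ^ B.card from h ω,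
          ← pow_add, Finset.card_sdiff_add_card_eq_card hBO]
  exact key Finset.univ fun _ _ η _ => Finset.mem_univ η

end Cfsg.Agent.WeakClosure
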