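import Mathlib
import Cfsg.Prelude.Def_LocalEven
import Cfsg.Agent.LocalEven61.PermFour
import Cfsg.Agent.Lib.Involution.BaerSuzuki
import Cfsg.Agent.PLocalB.ZJ

/-!
Transvections on an abelian `2`-group in a group not involving the symmetric group of degree four.
-/

set_option autoImplicit false
set_option linter.style.haveILetI false

namespace Cfsg.Agent.WeakClosure

variable {G : Type*} [Group G]

/-- An element not of `2`-power order has a power of odd prime order. -/
theorem exists_pow_odd_prime {M : Type*} [Group M] [Finite M] (y : M)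
    (h : ∀ k : ℕ, orderOf y ≠ 2 ^ k) : ∃ r n : ℕ, r.Prime ∧ r ≠ 2 ∧ orderOf (y ^ n) = r := by
  obtain ⟨r, hr, hr2, hrd⟩ : ∃ r : ℕ, r.Prime ∧ r ≠ 2 ∧ r ∣ orderOf y := by
    by_contra hcon
    push Not at hcon
    refine h (orderOf y).primeFactorsList.length ?_
    refine Nat.eq_prime_pow_of_unique_prime_dvd (orderOf_pos y).ne' ?_
    intro d hd hdd
    by_contra hd2
    exact hcon d hd hd2 hdd
  exact ⟨r, orderOf y / r, hr, hr2, orderOf_pow_orderOf_div (orderOf_pos y).ne' hrd⟩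

/-- If a group contains two involutions, each fixing a hyperplane of an abelian `2`-group, which do
not generate a `2`-group, then they realise `S₃` on a four-group. -/
theorem exists_four {W : Type*} [CommGroup W] [Finite W] (hW : IsPGroup 2 W)
    (E : Subgroup (MulAut W)) (a b : MulAut W) (haE : a ∈ E) (hbE : b ∈ E) (ha : a * a = 1)
    (hb : b * b = 1) (hfa : Nat.card W ≤ 2 * Nat.card {w : W // a w = w})
    (hfb : Nat.card W ≤ 2 * Nat.card {w : W // b w = w})
    (hnp : ¬ ∀ k, ∃ j : ℕ, ((a * b) ^ k) ^ 2 ^ j = 1) :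
    ∃ (V : Subgroup W) (z : MulAut W) (r : ℕ), z ∈ E ∧ r.Prime ∧ r ≠ 2 ∧ z ^ r = 1 ∧
      Nat.card V = 4 ∧ (∀ v ∈ V, a v ∈ V) ∧ (∀ v ∈ V, z v ∈ V) ∧
      (∃ v ∈ V, z v ≠ v) ∧ ∃ v ∈ V, a v ≠ v := by
  classical
  haveI : Fact (Nat.Prime 2) := ⟨Nat.prime_two⟩
  have hay : a * (a * b) * a⁻¹ = (a * b)⁻¹ := by
    rw [mul_inv_rev, ← mul_assoc, ha, one_mul, inv_eq_of_mul_eq_one_right hb]
  obtain ⟨r, n, hr, hr2, hzo⟩ := exists_pow_odd_prime (a * b) (by
    intro k hk
    refine hnp fun i => ⟨k, ?_⟩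
    rw [← pow_mul, mul_comm, pow_mul, ← hk, pow_orderOf_eq_one, one_pow])
  set z := (a * b) ^ n with hz
  have hzE : z ∈ E := pow_mem (E.mul_mem haE hbE) n
  have hza : a * z * a⁻¹ = z⁻¹ := by rw [hz, ← conj_pow, hay, inv_pow]
  have hzr : z ^ r = 1 := hzo ▸ pow_orderOf_eq_one z
  have hz1 : z ≠ 1 := fun h => hr.one_lt.ne (by rw [← hzo, h, orderOf_one])
  let ψ : W →* W :=
    { toFun := fun w => z w * w⁻¹
      map_one' := by simp
      map_mul' := fun u v => by rw [map_mul, mul_inv_rev]; ac_rfl }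
  set V := ψ.range
  set Fa := (a.toMonoidHom).eqLocus (MonoidHom.id W) with hFa
  set Fb := (b.toMonoidHom).eqLocus (MonoidHom.id W) with hFb
  have hker : Fa ⊓ Fb ≤ ψ.ker := by
    rintro w ⟨h1, h2⟩
    have h : z ∈ MulAction.stabilizer (MulAut W) w :=
      pow_mem (mul_mem (show a • w = w from h1) (show b • w = w from h2)) n
    rw [MonoidHom.mem_ker]
    show z w * w⁻¹ = 1
    rw [show z w = w from h, mul_inv_cancel]
  have hidx : ∀ (F : Subgroup W), Nat.card W ≤ 2 * Nat.card F → F.index ≤ 2 := by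
    intro F hF
    rw [← F.card_mul_index, mul_comm 2] at hF
    exact Nat.le_of_mul_le_mul_left hF Nat.card_pos
  have hV4 : Nat.card V ≤ 4 := by
    rw [← Subgroup.index_ker]
    refine (Subgroup.index_antitone hker).trans ?_
    · exact (Subgroup.index_inf_le (H := Fa) (K := Fb)).trans
        (Nat.mul_le_mul (hidx Fa hfa) (hidx Fb hfb))
  have hzV : ∀ v ∈ V, z v ∈ V := by
    rintro _ ⟨w, rfl⟩
    exact ⟨z w, by show z (z w) * (z w)⁻¹ = z (z w * w⁻¹); rw [map_mul, map_inv]⟩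
  have haV : ∀ v ∈ V, a v ∈ V := by
    rintro _ ⟨w, rfl⟩
    refine ⟨(z⁻¹ (a w))⁻¹, ?_⟩
    have h1 : a (z w) = z⁻¹ (a w) := by
      have h2 : (a * z * a⁻¹) (a w) = z⁻¹ (a w) := by rw [hza]
      simpa [MulAut.mul_apply] using h2
    show z (z⁻¹ (a w))⁻¹ * ((z⁻¹ (a w))⁻¹)⁻¹ = a (z w * w⁻¹)
    rw [map_inv, MulAut.apply_inv_self, inv_inv, map_mul, map_inv, h1, mul_comm]
  have hfpf : ∀ v ∈ V, z v = v → v = 1 := by
    rintro _ ⟨w, rfl⟩ hfix
    set v := ψ w with hv
    have hzw : z w = v * w := by simp [hv, ψ]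
    have key : ∀ i : ℕ, (z ^ i) w = v ^ i * w := by
      intro i
      induction i with
      | zero => simp
      | succ i ih => rw [pow_succ', MulAut.mul_apply, ih, map_mul, map_pow, hfix, hzw, pow_succ, mul_assoc]
    have h3 := key r
    rw [hzr, MulAut.one_apply] at h3
    have h4 : v ^ r = 1 := mul_eq_right.mp h3.symm
    obtain ⟨j, hj⟩ := hW v
    have h5 := orderOf_dvd_of_pow_eq_one h4
    have h6 := orderOf_dvd_of_pow_eq_one hj
    exact orderOf_eq_one_iff.mp (Nat.eq_one_of_dvd_coprimes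
      (((Nat.coprime_primes Nat.prime_two hr).mpr (Ne.symm hr2)).pow_left j) h6 h5)
  obtain ⟨w, hw⟩ : ∃ w, z w ≠ w := by
    by_contra hcon
    push Not at hcon
    exact hz1 (MulEquiv.ext hcon)
  have hv0 : ψ w ∈ V := ⟨w, rfl⟩
  have hv1 : ψ w ≠ 1 := fun h => hw (mul_inv_eq_one.mp h)
  have hmv : ∀ v ∈ V, v ≠ 1 → z v ≠ v ∧ z v ≠ 1 := fun v hv h1 =>
    ⟨fun h => h1 (hfpf v hv h), fun h => h1 (z.map_eq_one_iff.mp h)⟩
  have hV : Nat.card V = 4 := by
    obtain ⟨k, hk⟩ := IsPGroup.iff_card.mp (hW.to_subgroup V)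
    have h3 : 2 < Nat.card V := by
      obtain ⟨h5, h6⟩ := hmv _ hv0 hv1
      haveI : Fintype V := Fintype.ofFinite V
      rw [Nat.card_eq_fintype_card, Fintype.two_lt_card_iff]
      exact ⟨1, ⟨ψ w, hv0⟩, ⟨z (ψ w), hzV _ hv0⟩, fun h => hv1 (congrArg Subtype.val h).symm,
        fun h => h6 (congrArg Subtype.val h).symm, fun h => h5 (congrArg Subtype.val h).symm⟩
    have hk2 : k = 2 := by
      rw [hk] at h3 hV4
      have : k ≤ 2 := (Nat.pow_le_pow_iff_right (by norm_num)).mp hV4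
      interval_cases k <;> simp_all
    rw [hk, hk2]; rfl
  refine ⟨V, z, r, hzE, hr, hr2, hzr, hV, haV, hzV, ⟨_, hv0, (hmv _ hv0 hv1).1⟩, ?_⟩
  by_contra hcon
  push Not at hcon
  set v := ψ w
  have h1 : a (z v) = z v := hcon _ (hzV v hv0)
  have h2 : a v = v := hcon v hv0
  have h3 : (a * z * a⁻¹) (a v) = z⁻¹ (a v) := by rw [hza]
  simp only [MulAut.mul_apply, MulAut.inv_apply_self] at h3
  rw [h1, h2] at h3
  have h4 : (z ^ 2) v = v := by
    rw [pow_two, MulAut.mul_apply, h3, MulAut.apply_inv_self]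
  have hst : z ^ 2 ∈ MulAction.stabilizer (MulAut W) v := h4
  obtain ⟨k, hk⟩ := hr.odd_of_ne_two hr2
  have h5 : z ^ (r + 1) = z := by rw [pow_succ, hzr, one_mul]
  have : z ∈ MulAction.stabilizer (MulAut W) v := by
    rw [← h5, show r + 1 = 2 * (k + 1) by omega, pow_mul]
    exact pow_mem hst _
  exact (hmv v hv0 hv1).1 this

/-- A subgroup of order four with automizer `S₃`. -/
theorem involves_of_four [Finite G] (V : Subgroup G) (hV : Nat.card V = 4) (a y : G)
    (haN : a ∈ Subgroup.normalizer (V : Set G)) (hyN : y ∈ Subgroup.normalizer (V : Set G))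
    {r : ℕ} (hr : r.Prime) (hr2 : r ≠ 2) (ha2 : ∀ v ∈ V, (a * a) * v * (a * a)⁻¹ = v)
    (hyr : ∀ v ∈ V, y ^ r * v * (y ^ r)⁻¹ = v)
    (ha : ∃ v ∈ V, a * v * a⁻¹ ≠ v) (hy : ∃ v ∈ V, y * v * y⁻¹ ≠ v) :
    Cfsg.Involves (Equiv.Perm (Fin 4)) G := by
  classical
  haveI : Fintype V := Fintype.ofFinite V
  set N := Subgroup.normalizer (V : Set G)
  set θ := V.normalizerMonoidHom
  let X := {v : V // v ≠ 1}
  have hθ1 : ∀ n (v : V), v ≠ 1 ↔ θ n v ≠ 1 := fun n v => (not_congr (θ n).map_eq_one_iff).symm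
  let h : ↥N →* Equiv.Perm X :=
    { toFun := fun n =>
        { toFun := fun v => ⟨θ n v.1, (hθ1 n v.1).mp v.2⟩
          invFun := fun v => ⟨(θ n)⁻¹ v.1, (hθ1 n _).mpr (by rw [MulAut.apply_inv_self]; exact v.2)⟩
          left_inv := fun v => Subtype.ext (MulAut.inv_apply_self _ (θ n) v.1)
          right_inv := fun v => Subtype.ext (MulAut.apply_inv_self _ (θ n) v.1) }
      map_one' := Equiv.ext fun v => Subtype.ext (by simp)
      map_mul' := fun m n => Equiv.ext fun v => Subtype.ext (by simp [MulAut.mul_apply]) }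
  have hval : ∀ (n : ↥N) (v : X), ((h n v).1 : G) = (n : G) * (v.1 : G) * (n : G)⁻¹ := fun n v => rfl
  have hone : ∀ n : ↥N, h n = 1 ↔ ∀ v ∈ V, (n : G) * v * (n : G)⁻¹ = v := by
    intro n
    refine ⟨fun hn v hv => ?_, fun hn => Equiv.ext fun v => Subtype.ext (Subtype.ext ?_)⟩
    · by_cases h1 : v = 1
      · subst h1; group
      · have := hval n ⟨⟨v, hv⟩, fun e => h1 (congrArg Subtype.val e)⟩
        rw [hn] at this
        exact this.symm
    · rw [hval]; exact hn _ v.1.2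
  have hX : Fintype.card X = 3 := by
    rw [Fintype.card_subtype_compl, Fintype.card_subtype_eq, ← Nat.card_eq_fintype_card, hV]
  have hcard : Nat.card (Equiv.Perm X) = 6 := by
    rw [Nat.card_eq_fintype_card, Fintype.card_perm, hX]; rfl
  set A : ↥N := ⟨a, haN⟩
  set Y : ↥N := ⟨y, hyN⟩
  have hA : orderOf (h A) = 2 := by
    refine orderOf_eq_prime ?_ ?_
    · rw [pow_two, ← map_mul, hone]; exact ha2
    · rw [Ne, hone]; push Not; exact ha
  have hY : orderOf (h Y) = r := by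
    haveI := Fact.mk hr
    refine orderOf_eq_prime ?_ ?_
    · rw [← map_pow, hone]; simpa using hyr
    · rw [Ne, hone]; push Not; exact hy
  have hr6 : r ∣ 6 := hY ▸ hcard ▸ orderOf_dvd_natCard (h Y)
  have hr3 : r = 3 := by
    rcases hr.dvd_mul.mp (show r ∣ 2 * 3 from hr6) with h' | h'
    · exact absurd ((Nat.prime_dvd_prime_iff_eq hr Nat.prime_two).mp h') hr2
    · exact (Nat.prime_dvd_prime_iff_eq hr Nat.prime_three).mp h'
  have hsurj : Function.Surjective h := by
    rw [← MonoidHom.range_eq_top]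
    refine Subgroup.eq_top_of_le_card _ ?_
    rw [hcard]
    have h2 : 2 ∣ Nat.card h.range := hA ▸ Subgroup.orderOf_dvd_natCard _ ⟨A, rfl⟩
    have h3 : 3 ∣ Nat.card h.range := hr3 ▸ hY ▸ Subgroup.orderOf_dvd_natCard _ ⟨Y, rfl⟩
    have : 0 < Nat.card h.range := Nat.card_pos
    omega
  obtain ⟨e⟩ : Nonempty (X ≃ Fin 3) := ⟨Fintype.equivFinOfCardEq hX⟩
  refine LocalEven61.involves_perm4_of_two_local V (IsPGroup.of_card (n := 2) (by rw [hV]; rfl)) ?_
  haveI hCn : ((Subgroup.centralizer (V : Set G)).subgroupOf N).Normal := by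
    rw [← Subgroup.normalizerMonoidHom_ker]; infer_instance
  refine LocalEven61.involves_of_surjective ⊤
    ((?_ : (↥N ⧸ (Subgroup.centralizer (V : Set G)).subgroupOf N) →* Equiv.Perm (Fin 3)).comp
      Subgroup.topEquiv.toMonoidHom) ?_
  · exact (QuotientGroup.lift ((Subgroup.centralizer (V : Set G)).subgroupOf N)
      (e.permCongrHom.toMonoidHom.comp h) fun n hn => by
        have hn1 : h n = 1 := (hone n).mpr fun v hv => by
          rw [mul_inv_eq_iff_eq_mul]; exact (Subgroup.mem_centralizer_iff.mp hn v hv).symm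
        simp [hn1])
  · intro σ
    obtain ⟨n, hn⟩ := hsurj (e.permCongrHom.symm σ)
    exact ⟨⟨QuotientGroup.mk n, Subgroup.mem_top _⟩, by
      show e.permCongrHom (h n) = σ
      rw [hn, MulEquiv.apply_symm_apply]⟩

/-- In an `S₄`-free group a transvection lies in the preimage of `O₂` of the automizer. -/
theorem transvection [Finite G] (hS4 : ¬ Cfsg.Involves (Equiv.Perm (Fin 4)) G)
    {L W : Subgroup G} (hLW : L ≤ Subgroup.normalizer (W : Set G)) (hW : IsPGroup 2 W)
    (hWc : IsMulCommutative W) {a : G} (haL : a ∈ L) (ha2 : ∀ w ∈ W, a * a * w = w * (a * a))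
    (hidx : (Subgroup.centralizer ({a} : Set G)).relIndex W ≤ 2) :
    ∃ P : Subgroup G, P ≤ L ∧ L ≤ Subgroup.normalizer (P : Set G) ∧ a ∈ P ∧
      L ⊓ Subgroup.centralizer (W : Set G) ≤ P ∧
      ∀ g ∈ P, ∃ j : ℕ, g ^ 2 ^ j ∈ L ⊓ Subgroup.centralizer (W : Set G) := by
  classical
  haveI : Fact (Nat.Prime 2) := ⟨Nat.prime_two⟩
  letI : CommGroup ↥W := { (inferInstance : Group ↥W) with mul_comm := hWc.is_comm.comm }
  let θ : ↥L →* MulAut ↥W := W.normalizerMonoidHom.comp (Subgroup.inclusion hLW)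
  have hθval : ∀ (g : ↥L) (w : ↥W), ((θ g w : ↥W) : G) = g * w * (g : G)⁻¹ := fun g w => rfl
  have hθone : ∀ g : ↥L, θ g = 1 ↔ (g : G) ∈ Subgroup.centralizer (W : Set G) := by
    intro g
    constructor
    · intro h
      refine Subgroup.mem_centralizer_iff.mpr fun w hw => ?_
      have := hθval g ⟨w, hw⟩
      rw [h, MulAut.one_apply] at this
      exact (mul_inv_eq_iff_eq_mul.mp this.symm).symm
    · intro h
      refine MulEquiv.ext fun w => Subtype.ext ?_
      rw [hθval, MulAut.one_apply, ← Subgroup.mem_centralizer_iff.mp h _ w.2, mul_inv_cancel_right]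
  set A : ↥L := ⟨a, haL⟩
  set E := θ.range
  set ab : ↥E := ⟨θ A, A, rfl⟩ with hab
  by_cases hpair : ∀ g : ↥E, IsPGroup 2 (Subgroup.closure ({ab, g * ab * g⁻¹} : Set ↥E))
  · obtain ⟨N, hN, hNp, haN⟩ := Involution.baerSuzuki (p := 2) ab hpair
    haveI := hN
    refine ⟨(N.comap θ.rangeRestrict).map L.subtype, Subgroup.map_subtype_le _, ?_,
      ⟨A, haN, rfl⟩, ?_, ?_⟩
    · intro g hg
      refine PLocalB.mem_normalizer_of_conj_mem _ g ?_
      rintro _ ⟨k, hk, rfl⟩
      exact ⟨⟨g, hg⟩ * k * ⟨g, hg⟩⁻¹, (Subgroup.normal_comap θ.rangeRestrict).conj_mem k hk _, rfl⟩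
    · rintro c ⟨hcL, hc⟩
      refine ⟨⟨c, hcL⟩, ?_, rfl⟩
      rw [SetLike.mem_coe, Subgroup.mem_comap,
        show θ.rangeRestrict ⟨c, hcL⟩ = 1 from Subtype.ext ((hθone _).mpr hc)]
      exact one_mem N
    · rintro _ ⟨k, hk, rfl⟩
      obtain ⟨j, hj⟩ := hNp ⟨_, hk⟩
      have hj' : θ.rangeRestrict k ^ 2 ^ j = 1 := congrArg Subtype.val hj
      have hj'' : θ (k ^ 2 ^ j) = 1 := by rw [map_pow]; exact congrArg Subtype.val hj'
      refine ⟨j, ?_, ?_⟩
      · exact pow_mem k.2 _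
      · exact (hθone _).mp hj''
  · exfalso
    push Not at hpair
    obtain ⟨⟨gb, G₀, rfl⟩, hg⟩ := hpair
    set a' : MulAut ↥W := θ A
    set b' : MulAut ↥W := θ (G₀ * A * G₀⁻¹)
    have haa : a' * a' = 1 := by
      rw [← map_mul, hθone]
      exact Subgroup.mem_centralizer_iff.mpr fun w hw => (ha2 w hw).symm
    have hbb : b' * b' = 1 := by
      rw [← map_mul, show G₀ * A * G₀⁻¹ * (G₀ * A * G₀⁻¹) = G₀ * (A * A) * G₀⁻¹ by group,
        map_mul, map_mul θ G₀, map_mul θ A, haa, mul_one, ← map_mul, mul_inv_cancel, map_one]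
    have hfa : Nat.card ↥W ≤ 2 * Nat.card {w : ↥W // a' w = w} := by
      have e : Nat.card {w : ↥W // a' w = w} =
          Nat.card ((Subgroup.centralizer ({a} : Set G)).subgroupOf W) := by
        refine Nat.card_congr (Equiv.subtypeEquivRight fun w => ?_)
        rw [Subgroup.mem_subgroupOf, Subgroup.mem_centralizer_singleton_iff, Subtype.ext_iff,
          hθval, mul_inv_eq_iff_eq_mul, eq_comm]
      rw [e, ← Subgroup.card_mul_index ((Subgroup.centralizer ({a} : Set G)).subgroupOf W),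
        mul_comm 2]
      exact Nat.mul_le_mul_left _ hidx
    have hfb : Nat.card ↥W ≤ 2 * Nat.card {w : ↥W // b' w = w} := by
      refine hfa.trans (Nat.mul_le_mul_left _ (le_of_eq ?_))
      refine Nat.card_congr (Equiv.subtypeEquiv (θ G₀).toEquiv fun w => ?_)
      show a' w = w ↔ b' (θ G₀ w) = θ G₀ w
      rw [show b' (θ G₀ w) = θ G₀ (a' w) by simp [b', a', map_mul, MulAut.mul_apply]]
      exact (θ G₀).injective.eq_iff.symm
    obtain ⟨V, z, r, hzE, hr, hr2, hzr, hV, haV, hzV, hz, ha⟩ :=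
      exists_four hW E a' b' ⟨A, rfl⟩ ⟨_, rfl⟩ haa hbb hfa hfb (by
        intro hall
        apply hg
        set B : ↥E := ⟨θ G₀, G₀, rfl⟩ * ab * (⟨θ G₀, G₀, rfl⟩ : ↥E)⁻¹
        have hBv : (B : MulAut ↥W) = b' := by simp [B, b', hab, map_mul]
        have hA1 : ab * ab = 1 := Subtype.ext haa
        have hB1 : B * B = 1 := Subtype.ext (by rw [Subgroup.coe_mul, hBv]; exact hbb)
        have hp1 : IsPGroup 2 (Subgroup.zpowers (ab * B)) := by
          obtain ⟨j, hj⟩ := hall 1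
          rw [pow_one] at hj
          have : orderOf (ab * B) ∣ 2 ^ j := orderOf_dvd_of_pow_eq_one (Subtype.ext (by
            rw [SubmonoidClass.coe_pow, Subgroup.coe_mul, hBv]; exact hj))
          obtain ⟨i, -, hi⟩ := (Nat.dvd_prime_pow Nat.prime_two).mp this
          exact IsPGroup.of_card (n := i) (by rw [Nat.card_zpowers, hi])
        have hp2 : IsPGroup 2 (Subgroup.zpowers ab) := by
          have : orderOf ab ∣ 2 ^ 1 := orderOf_dvd_of_pow_eq_one (by rw [pow_one, pow_two, hA1])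
          obtain ⟨i, -, hi⟩ := (Nat.dvd_prime_pow Nat.prime_two).mp this
          exact IsPGroup.of_card (n := i) (by rw [Nat.card_zpowers, hi])
        have hn : Subgroup.zpowers ab ≤
            Subgroup.normalizer ((Subgroup.zpowers (ab * B) : Subgroup ↥E) : Set ↥E) := by
          rw [Subgroup.zpowers_le]
          refine PLocalB.mem_normalizer_of_conj_mem _ ab ?_
          intro u hu
          obtain ⟨i, rfl⟩ := Subgroup.mem_zpowers_iff.mp hu
          rw [← conj_zpow]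
          refine zpow_mem ?_ i
          have : ab * (ab * B) * ab⁻¹ = (ab * B)⁻¹ := by
            rw [mul_inv_rev, ← mul_assoc ab, hA1, one_mul, inv_eq_of_mul_eq_one_right hB1]
          rw [this]; exact inv_mem (Subgroup.mem_zpowers _)
        refine (hp1.to_sup_of_normal_left' hp2 hn).to_le ((Subgroup.closure_le _).mpr ?_)
        rintro u (rfl | rfl)
        · exact Subgroup.mem_sup_right (Subgroup.mem_zpowers _)
        · have hmem : ab⁻¹ * (ab * B) ∈ Subgroup.zpowers (ab * B) ⊔ Subgroup.zpowers ab :=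
            mul_mem (Subgroup.mem_sup_right (inv_mem (Subgroup.mem_zpowers _)))
              (Subgroup.mem_sup_left (Subgroup.mem_zpowers _))
          rw [inv_mul_cancel_left] at hmem
          exact hmem)
    obtain ⟨Y, rfl⟩ := hzE
    refine hS4 (involves_of_four (V.map W.subtype) ?_ a (Y : G) ?_ ?_ hr hr2 ?_ ?_ ?_ ?_)
    · rw [Subgroup.card_map_of_injective W.subtype_injective, hV]
    · refine PLocalB.mem_normalizer_of_conj_mem _ a ?_
      rintro _ ⟨v, hv, rfl⟩; exact ⟨a' v, haV v hv, rfl⟩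
    · refine PLocalB.mem_normalizer_of_conj_mem _ (Y : G) ?_
      rintro _ ⟨v, hv, rfl⟩; exact ⟨θ Y v, hzV v hv, rfl⟩
    · rintro _ ⟨v, -, rfl⟩
      rw [Subgroup.coe_subtype, ha2 _ v.2, mul_inv_cancel_right]
    · rintro _ ⟨v, -, rfl⟩
      rw [← map_pow] at hzr
      have := Subgroup.mem_centralizer_iff.mp ((hθone _).mp hzr) _ v.2
      rw [Subgroup.coe_pow] at this
      rw [Subgroup.coe_subtype, ← this, mul_inv_cancel_right]
    · obtain ⟨v, hv, hne⟩ := ha
      exact ⟨_, ⟨v, hv, rfl⟩, fun h => hne (Subtype.ext h)⟩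
    · obtain ⟨v, hv, hne⟩ := hz
      exact ⟨_, ⟨v, hv, rfl⟩, fun h => hne (Subtype.ext h)⟩

end Cfsg.Agent.WeakClosure
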