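import Mathlib
import Cfsg.Agent.PLocalB.CenterThompson
import Cfsg.Agent.Lib.PGroup.Basic
import Cfsg.Agent.WeakClosure.Orbit
import Cfsg.Agent.WeakClosure.Transvection

/-!
The local step of Glauberman's theorem on weakly closed elements.
-/

set_option autoImplicit false
set_option linter.style.haveILetI false

open scoped commutatorElement

namespace Cfsg.Agent.WeakClosure

open Cfsg

variable {G : Type*} [Group G] [Finite G]

local notation "JA" => Cfsg.thompsonSubgroupAOf

/-- Frattini argument inside `L`. -/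
theorem frattini {p : ℕ} [Fact p.Prime] {L T D : Subgroup G} (hTL : T ≤ L) (hT : IsPGroup p T)
    (hidx : ¬ p ∣ T.relIndex L) (hDL : D ≤ L) (hLD : L ≤ Subgroup.normalizer (D : Set G))
    {g : G} (hg : g ∈ L) :
    ∃ d ∈ D, ∃ n ∈ L, n ∈ Subgroup.normalizer ((T ⊓ D : Subgroup G) : Set G) ∧ g = d * n := by
  haveI : (D.subgroupOf L).Normal := (Subgroup.normal_subgroupOf_iff_le_normalizer hDL).mpr hLD
  set S₁ : Sylow p ↥L :=
    (hT.comap_of_injective L.subtype L.subtype_injective : IsPGroup p ↥(T.subgroupOf L)).toSylow hidx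
  have h := PLocalB.normalizer_inf_sup_eq_top S₁ (D.subgroupOf L)
  have hmem : (⟨g, hg⟩ : ↥L) ∈ D.subgroupOf L ⊔
      Subgroup.normalizer (((T.subgroupOf L) ⊓ D.subgroupOf L : Subgroup ↥L) : Set ↥L) := by
    rw [sup_comm]
    exact h.symm ▸ Subgroup.mem_top _
  obtain ⟨d, hd, n, hn, hdn⟩ := Subgroup.mem_sup_of_normal_left.mp hmem
  refine ⟨d, hd, n, n.2, ?_, (congrArg Subtype.val hdn).symm⟩
  refine PLocalB.mem_normalizer_of_conj_mem _ _ ?_
  intro y hy
  have := (Subgroup.mem_normalizer_iff.mp hn ⟨y, hTL hy.1⟩).mp ⟨hy.1, hy.2⟩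
  exact ⟨this.1, this.2⟩

/-- Frattini argument for a normal subgroup which is a `p`-group modulo `C`. -/
theorem frattini_pgroup {p : ℕ} [Fact p.Prime] {L T P C : Subgroup G} (hTL : T ≤ L)
    (hT : IsPGroup p T) (hidx : ¬ p ∣ T.relIndex L) (hPL : P ≤ L)
    (hLP : L ≤ Subgroup.normalizer (P : Set G)) (hCP : C ≤ P) (hLC : L ≤ Subgroup.normalizer (C : Set G))
    (hpow : ∀ g ∈ P, ∃ j : ℕ, g ^ p ^ j ∈ C) {g : G} (hg : g ∈ P) :
    ∃ c ∈ C, ∃ t ∈ T ⊓ P, g = c * t := by
  haveI : (C.subgroupOf P).Normal :=
    (Subgroup.normal_subgroupOf_iff_le_normalizer hCP).mpr (hPL.trans hLC)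
  have hq : IsPGroup p (↥P ⧸ C.subgroupOf P) := by
    intro q
    obtain ⟨k, rfl⟩ := QuotientGroup.mk'_surjective _ q
    obtain ⟨j, hj⟩ := hpow k k.2
    exact ⟨j, by rw [← map_pow]; exact (QuotientGroup.eq_one_iff _).mpr hj⟩
  haveI : (P.subgroupOf L).Normal := (Subgroup.normal_subgroupOf_iff_le_normalizer hPL).mpr hLP
  have hTP : ¬ p ∣ ((T ⊓ P).subgroupOf P).index := by
    intro hd
    have h1 : (T.subgroupOf L).relIndex (P.subgroupOf L) = ((T ⊓ P).subgroupOf P).index := by
      rw [Subgroup.relIndex_subgroupOf hPL, ← Subgroup.inf_relIndex_right]; rfl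
    have h2 : (T.subgroupOf L).relIndex (P.subgroupOf L) ∣ (T.subgroupOf L).index := by
      set A := T.subgroupOf L
      set B := P.subgroupOf L
      have e1 : A.relIndex B * B.index = (A ⊓ B).index := by
        rw [← Subgroup.inf_relIndex_right A B, Subgroup.relIndex_mul_index inf_le_right]
      have e2 : B.relIndex A * A.index = (A ⊓ B).index := by
        rw [← Subgroup.inf_relIndex_left A B, Subgroup.inf_relIndex_left,
          ← Subgroup.inf_relIndex_left A B, Subgroup.relIndex_mul_index inf_le_left]
      have h4 : A.relIndex B * B.index ∣ A.index * B.index := by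
        rw [e1, ← e2, mul_comm A.index B.index]
        exact Nat.mul_dvd_mul (Subgroup.relIndex_dvd_index_of_normal B A) dvd_rfl
      exact Nat.dvd_of_mul_dvd_mul_right (Nat.pos_of_ne_zero Subgroup.index_ne_zero_of_finite) h4
    exact hidx ((h1 ▸ hd).trans h2)
  have htop : C.subgroupOf P ⊔ (T ⊓ P).subgroupOf P = ⊤ := by
    rw [← Subgroup.index_eq_one]
    obtain ⟨k, hk⟩ := IsPGroup.iff_card.1 hq
    exact Nat.eq_one_of_dvd_coprimes
      (Nat.Coprime.pow_left k ((Nat.Prime.coprime_iff_not_dvd Fact.out).2 hTP))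
      (hk ▸ Subgroup.index_dvd_of_le le_sup_left) (Subgroup.index_dvd_of_le le_sup_right)
  obtain ⟨c, hc, t, ht, hct⟩ := Subgroup.mem_sup_of_normal_left.mp
    (htop.symm ▸ Subgroup.mem_top (⟨g, hg⟩ : ↥P))
  exact ⟨c, hc, t, ht, (congrArg Subtype.val hct).symm⟩

theorem thompsonA_le (P : Subgroup G) : JA P ≤ P := Subgroup.map_subtype_le _

theorem normalizer_le_normalizer_thompsonA (P : Subgroup G) :
    Subgroup.normalizer (P : Set G) ≤ Subgroup.normalizer ((JA P : Subgroup G) : Set G) := by
  intro g hg
  refine PLocalB.mem_normalizer_of_conj_mem _ g ?_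
  have e : P.map (MulAut.conj g).toMonoidHom = P := by
    apply Subgroup.eq_of_le_of_card_ge
    · rintro _ ⟨y, hy, rfl⟩; exact (Subgroup.mem_normalizer_iff.mp hg y).mp hy
    · exact le_of_eq (Subgroup.card_map_of_injective (MulAut.conj g).injective).symm
  rw [PLocalB.thompsonSubgroupAOf_eq]
  intro y hy
  have key : sSup {A | (PLocalB.abelianFamily G).IsMax P A} ≤
      (sSup {A | (PLocalB.abelianFamily G).IsMax P A}).comap (MulAut.conj g).toMonoidHom := by
    refine sSup_le fun A hA a ha => ?_
    have hA' := (PLocalB.abelianFamily G).isMax_map hA (MulAut.conj g)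
    rw [e] at hA'
    exact (le_sSup (s := {A | (PLocalB.abelianFamily G).IsMax P A}) hA')
      (Subgroup.mem_map_of_mem _ ha)
  exact key hy

theorem thompsonA_eq_of_between {P Q : Subgroup G} (h1 : JA P ≤ Q) (h2 : Q ≤ P) : JA Q = JA P := by
  rw [PLocalB.thompsonSubgroupAOf_eq] at h1 ⊢
  rw [PLocalB.thompsonSubgroupAOf_eq]
  set F := PLocalB.abelianFamily G
  congr 1
  ext A
  constructor
  · intro hA
    refine ⟨hA.1.trans h2, hA.2.1, fun B hB hgB => ?_⟩
    obtain ⟨M, hM⟩ := F.exists_isMax P
    exact (hM.2.2 B hB hgB).trans (hA.2.2 M ((le_sSup (s := {A | F.IsMax P A}) hM).trans h1) hM.2.1)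
  · intro hA
    exact ⟨(le_sSup hA).trans h1, hA.2.1, fun B hB hgB => hA.2.2 B (hB.trans h2) hgB⟩

theorem mem_thompsonA_of_central {P : Subgroup G} {x : G} (hxP : x ∈ P)
    (hx : x ∈ Subgroup.centralizer (P : Set G)) : x ∈ JA P := by
  rw [PLocalB.thompsonSubgroupAOf_eq]
  obtain ⟨A, hA⟩ := (PLocalB.abelianFamily G).exists_isMax P
  refine (le_sSup (s := {A | (PLocalB.abelianFamily G).IsMax P A}) hA) ?_
  exact (PLocalB.abelianFamily G).mem_of_centralizes hA hxP
    (PLocalB.isMulCommutative_sup_zpowers hA.2.1 fun a ha =>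
      Subgroup.mem_centralizer_iff.mp hx a (hA.1 ha))

/-- **Glauberman's lemma**, one step. If `x` lies in a normal `p`-subgroup of `L`, is central in a Sylow
`p`-subgroup `T` of `L` and is centralized by the normalizer in `L` of `J(T)`, then it is central in
`L`, provided that `p` is odd, `x` is a `p`-th power of such an element, or `G` is `S₄`-free, and `x ^ p` is already known to be central. -/
theorem local_central_step {p : ℕ} [hp : Fact p.Prime] {T : Subgroup G} (hT : IsPGroup p T) (x z : G)
    (hxC : x ∈ Subgroup.centralizer (T : Set G)) (hzC : z ∈ Subgroup.centralizer (T : Set G))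
    (h : p ≠ 2 ∨ z ^ p = x ∨ ¬ Cfsg.Involves (Equiv.Perm (Fin 4)) G)
    (hxp : ∀ (L Q : Subgroup G), T ≤ L → ¬ p ∣ T.relIndex L → Q ≤ T →
      L ≤ Subgroup.normalizer (Q : Set G) → x ∈ Q → z ∈ Q →
      (∀ g ∈ L, g ∈ Subgroup.normalizer ((JA T : Subgroup G) : Set G) → Commute g x) →
      ∀ g ∈ L, Commute g (x ^ p)) :
    ∀ (L Q : Subgroup G), T ≤ L → ¬ p ∣ T.relIndex L → Q ≤ T →
      L ≤ Subgroup.normalizer (Q : Set G) → x ∈ Q → z ∈ Q →
      (∀ g ∈ L, g ∈ Subgroup.normalizer ((JA T : Subgroup G) : Set G) → Commute g x) →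
      ∀ g ∈ L, Commute g x := by
  classical
  intro L
  induction hn : Nat.card L using Nat.strong_induction_on generalizing L with
  | _ n IH =>
    intro Q hTL hidx hQT hLQ hxQ hzQ hJ
    subst hn
    -- the recursion
    have IH' : ∀ M : Subgroup G, M < L → T ≤ M → ∀ g ∈ M, Commute g x := by
      intro M hM hTM
      refine IH (Nat.card M) ?_ M rfl Q hTM ?_ hQT (hM.le.trans hLQ) hxQ hzQ
        fun g hg hgJ => hJ g (hM.le hg) hgJ
      · by_contra hcon
        exact hM.ne (Subgroup.eq_of_le_of_card_ge hM.le (not_lt.mp hcon))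
      · intro hd
        exact hidx (hd.trans (by
          rw [← Subgroup.relIndex_mul_relIndex T M L hTM hM.le]; exact dvd_mul_right _ _))
    -- the abelian normal subgroup `W`
    set W := Subgroup.closure {w : G | ∃ g ∈ L, w = g * x * g⁻¹ ∨ w = g * z * g⁻¹} with hWdef
    have hxW : x ∈ W := Subgroup.subset_closure ⟨1, one_mem L, Or.inl (by group)⟩
    have hWQ : W ≤ Q := by
      rw [hWdef, Subgroup.closure_le]
      rintro _ ⟨g, hg, rfl | rfl⟩
      · exact (Subgroup.mem_normalizer_iff.mp (hLQ hg) x).mp hxQ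
      · exact (Subgroup.mem_normalizer_iff.mp (hLQ hg) z).mp hzQ
    have hWT : W ≤ T := hWQ.trans hQT
    -- a normal subgroup inside `T` centralizes `W`
    have hcentW : ∀ N : Subgroup G, N ≤ T → L ≤ Subgroup.normalizer (N : Set G) →
        N ≤ Subgroup.centralizer (W : Set G) := by
      intro N hN hLN
      refine Subgroup.le_centralizer_iff.mp ((Subgroup.closure_le _).mpr ?_)
      rintro _ ⟨g, hg, hw⟩
      refine Subgroup.mem_centralizer_iff.mpr fun r hr => ?_
      have hr' : g⁻¹ * r * g ∈ T := hN (by
        simpa using (Subgroup.mem_normalizer_iff.mp (inv_mem (hLN hg)) r).mp hr)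
      rcases hw with rfl | rfl
      · calc r * (g * x * g⁻¹) = g * ((g⁻¹ * r * g) * x) * g⁻¹ := by group
          _ = g * (x * (g⁻¹ * r * g)) * g⁻¹ := by rw [Subgroup.mem_centralizer_iff.mp hxC _ hr']
          _ = g * x * g⁻¹ * r := by group
      · calc r * (g * z * g⁻¹) = g * ((g⁻¹ * r * g) * z) * g⁻¹ := by group
          _ = g * (z * (g⁻¹ * r * g)) * g⁻¹ := by rw [Subgroup.mem_centralizer_iff.mp hzC _ hr']
          _ = g * z * g⁻¹ * r := by group
    have hWc : IsMulCommutative W :=
      Subgroup.le_centralizer_iff_isMulCommutative.mp (hWQ.trans (hcentW Q hQT hLQ))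
    have hLW : L ≤ Subgroup.normalizer (W : Set G) := by
      intro g hg
      refine PLocalB.mem_normalizer_of_conj_mem W g ?_
      intro w hw
      have : W ≤ W.comap (MulAut.conj g).toMonoidHom := by
        rw [hWdef, Subgroup.closure_le]
        rintro _ ⟨k, hk, hk'⟩
        refine Subgroup.subset_closure ⟨g * k, mul_mem hg hk, ?_⟩
        rcases hk' with rfl | rfl
        · left; simp [mul_assoc]
        · right; simp [mul_assoc]
      exact this hw
    set C := L ⊓ Subgroup.centralizer (W : Set G) with hCdef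
    have hCx : ∀ c ∈ C, Commute c x := fun c hc =>
      (Subgroup.mem_centralizer_iff.mp hc.2 x hxW).symm
    have hLC : L ≤ Subgroup.normalizer (C : Set G) := by
      intro g hg
      refine PLocalB.mem_normalizer_of_conj_mem C g ?_
      rintro c ⟨hcL, hc⟩
      refine ⟨L.mul_mem (L.mul_mem hg hcL) (L.inv_mem hg), Subgroup.mem_centralizer_iff.mpr fun w hw => ?_⟩
      have hw' : g⁻¹ * w * g ∈ W := by
        simpa using (Subgroup.mem_normalizer_iff.mp (inv_mem (hLW hg)) w).mp hw
      calc w * (g * c * g⁻¹) = g * ((g⁻¹ * w * g) * c) * g⁻¹ := by group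
        _ = g * (c * (g⁻¹ * w * g)) * g⁻¹ := by rw [Subgroup.mem_centralizer_iff.mp hc _ hw']
        _ = g * c * g⁻¹ * w := by group
    set F := PLocalB.abelianFamily G
    have hJT : JA T = sSup {A | F.IsMax T A} := PLocalB.thompsonSubgroupAOf_eq T
    by_cases hall : ∀ A : Subgroup G, F.IsMax T A → A ≤ Subgroup.centralizer (W : Set G)
    · -- Frattini
      intro g hg
      obtain ⟨d, hd, m, hm, hmN, rfl⟩ := frattini hTL hT hidx inf_le_left hLC hg
      have hJle : JA T ≤ T ⊓ C := by
        rw [hJT]
        exact sSup_le fun A hA => le_inf hA.1 (le_inf (hA.1.trans hTL) (hall A hA))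
      have hmJ := normalizer_le_normalizer_thompsonA _ hmN
      rw [thompsonA_eq_of_between hJle inf_le_left] at hmJ
      exact (hCx d hd).mul_left (hJ m hm hmJ)
    · push Not at hall
      set cand : Set (Subgroup G) := {A | F.IsMax T A ∧ ¬ A ≤ Subgroup.centralizer (W : Set G)}
      obtain ⟨A₀, hA₀, hA₀max⟩ := Set.exists_max_image cand (fun A => Nat.card ↥(A ⊓ W))
        (Set.toFinite _) hall
      set best : Set (Subgroup G) :=
        {A | A ∈ cand ∧ ∀ B ∈ cand, Nat.card ↥(B ⊓ W) ≤ Nat.card ↥(A ⊓ W)} with hbest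
      -- an abelian subgroup of largest order centralizing `W` contains it
      have habs : ∀ A, F.IsMax T A → A ≤ Subgroup.centralizer (W : Set G) → W ≤ A := by
        intro A hA hAW w hw
        exact F.mem_of_centralizes hA (hWT hw) (PLocalB.isMulCommutative_sup_zpowers hA.2.1
          fun a ha => (Subgroup.mem_centralizer_iff.mp (hAW ha) w hw).symm)
      have hTW : T ≤ Subgroup.normalizer (W : Set G) := hTL.trans hLW
      have hnormA : ∀ A ∈ best, W ≤ Subgroup.normalizer (A : Set G) := by
        rintro A ⟨⟨hA, hAW⟩, hAmax⟩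
        by_contra hnot
        obtain ⟨A', hA'T, hA'card, hA'c, -, -, hlt, -, -, hA'N, -⟩ :=
          PLocalB.replacement_in T W A hT hWT hTW (fun _ => hWc) hA.1 hA.2.1
            (by
              rw [Subgroup.commutator_eq_bot_iff_le_centralizer.mpr
                (Subgroup.le_centralizer_iff_isMulCommutative.mpr hWc)]
              exact bot_le) hnot
        have hA'max : F.IsMax T A' := ⟨hA'T, hA'c, fun B hB hgB => hA'card ▸ hA.2.2 B hB hgB⟩
        by_cases hA'W : A' ≤ Subgroup.centralizer (W : Set G)
        · exact hnot ((habs A' hA'max hA'W).trans hA'N)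
        · exact not_lt.mpr (hAmax A' ⟨hA'max, hA'W⟩)
            (lt_of_le_of_ne (Subgroup.card_le_of_le hlt.le)
              fun he => hlt.ne (Subgroup.eq_of_le_of_card_ge hlt.le he.ge))
      set R := sSup best with hRdef
      have hRT : R ≤ T := sSup_le fun A hA => hA.1.1.1
      have hAR : ∀ A ∈ best, A ≤ R := fun A hA => le_sSup hA
      -- conjugates of `R` inside `T`
      have hRnorm : ∀ g ∈ L, (∀ r ∈ R, g * r * g⁻¹ ∈ T) →
          g ∈ Subgroup.normalizer (R : Set G) := by
        intro g hg hin
        refine PLocalB.mem_normalizer_of_conj_mem R g ?_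
        have key : R ≤ R.comap (MulAut.conj g).toMonoidHom := by
          refine sSup_le fun A hA a ha => ?_
          set A' := A.map (MulAut.conj g).toMonoidHom with hA'def
          have hA'T : A' ≤ T := by
            rintro _ ⟨b, hb, rfl⟩; exact hin b (hAR A hA hb)
          have hcard : Nat.card A' = Nat.card A :=
            Subgroup.card_map_of_injective (MulAut.conj g).injective
          have hW' : W.map (MulAut.conj g).toMonoidHom = W := by
            apply Subgroup.eq_of_le_of_card_ge
            · rintro _ ⟨y, hy, rfl⟩; exact (Subgroup.mem_normalizer_iff.mp (hLW hg) y).mp hy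
            · exact le_of_eq (Subgroup.card_map_of_injective (MulAut.conj g).injective).symm
          have hA'max : F.IsMax T A' := ⟨hA'T, F.map_aut A (MulAut.conj g) hA.1.1.2.1,
            fun B hB hgB => hcard ▸ hA.1.1.2.2 B hB hgB⟩
          have hA'W : ¬ A' ≤ Subgroup.centralizer (W : Set G) := by
            intro hle
            refine hA.1.2 fun b hb => Subgroup.mem_centralizer_iff.mpr fun w hw => ?_
            have hgw : g * w * g⁻¹ ∈ W := (Subgroup.mem_normalizer_iff.mp (hLW hg) w).mp hw
            have := Subgroup.mem_centralizer_iff.mp (hle ⟨b, hb, rfl⟩) _ hgw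
            apply (MulAut.conj g).injective
            rw [map_mul, map_mul]
            exact this
          have hbest' : A' ∈ best := ⟨⟨hA'max, hA'W⟩, fun B hB => by
            refine (hA.2 B hB).trans_eq ?_
            rw [← hW', hA'def, ← Subgroup.map_inf _ _ _ (MulAut.conj g).injective, hW']
            exact (Subgroup.card_map_of_injective (MulAut.conj g).injective).symm⟩
          exact hAR A' hbest' ⟨a, ha, rfl⟩
        exact fun r hr => key hr
      have hTR : T ≤ Subgroup.normalizer (R : Set G) := fun t ht =>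
        hRnorm t (hTL ht) fun r hr => mul_mem (mul_mem ht (hRT hr)) (inv_mem ht)
      set M := L ⊓ Subgroup.normalizer (R : Set G) with hMdef
      have hMlt : M < L := by
        refine lt_of_le_of_ne inf_le_left fun he => ?_
        exact hA₀.2 ((hAR A₀ ⟨hA₀, hA₀max⟩).trans (hcentW R hRT (inf_eq_left.mp he)))
      have hM : ∀ g ∈ M, Commute g x := IH' M hMlt (le_inf hTL hTR)
      -- the transfer
      haveI : Fintype (↥L ⧸ T.subgroupOf L) := Fintype.ofFinite _
      letI : CommGroup ↥W := { (inferInstance : Group ↥W) with mul_comm := hWc.is_comm.comm }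
      have hRL : R ≤ L := hRT.trans hTL
      let θ : ↥L →* MulAut ↥W := W.normalizerMonoidHom.comp (Subgroup.inclusion hLW)
      have hθval : ∀ (g : ↥L) (w : ↥W), ((θ g w : ↥W) : G) = g * w * (g : G)⁻¹ := fun g w => rfl
      let θR : ↥R →* MulAut ↥W := θ.comp (Subgroup.inclusion hRL)
      letI : MulAction ↥R (↥L ⧸ T.subgroupOf L) := MulAction.compHom _ (Subgroup.inclusion hRL)
      have hmk : ∀ (y : G) (hyW : y ∈ W), y ∈ Subgroup.centralizer (T : Set G) →
          ∀ a b : ↥L, QuotientGroup.leftRel (T.subgroupOf L) a b → θ a ⟨y, hyW⟩ = θ b ⟨y, hyW⟩ := by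
        intro y hyW hy a b hab
        rw [QuotientGroup.leftRel_apply] at hab
        refine Subtype.ext ?_
        rw [hθval, hθval]
        have ht : ((a⁻¹ * b : ↥L) : G) ∈ T := hab
        have := Subgroup.mem_centralizer_iff.mp hy _ ht
        simp only [Subgroup.coe_mul, Subgroup.coe_inv] at this
        calc (a : G) * y * (a : G)⁻¹ = (a : G) * (y * ((a : G)⁻¹ * b)) * (b : G)⁻¹ := by group
          _ = (a : G) * (((a : G)⁻¹ * b) * y) * (b : G)⁻¹ := by rw [this]
          _ = (b : G) * y * (b : G)⁻¹ := by group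
      have hzW : z ∈ W := Subgroup.subset_closure ⟨1, one_mem L, Or.inr (by group)⟩
      let f : ↥L ⧸ T.subgroupOf L → ↥W := Quotient.lift (fun g => θ g ⟨x, hxW⟩) (hmk x hxW hxC)
      let fz : ↥L ⧸ T.subgroupOf L → ↥W := Quotient.lift (fun g => θ g ⟨z, hzW⟩) (hmk z hzW hzC)
      have hequiv : ∀ (r : ↥R) (η : ↥L ⧸ T.subgroupOf L),
          f (r • η) = θR r (f η) ∧ fz (r • η) = θR r (fz η) := by
        intro r η
        induction η using QuotientGroup.induction_on with
        | H g =>
          constructor
          · show θ (Subgroup.inclusion hRL r * g) _ = _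
            rw [map_mul, MulAut.mul_apply]; rfl
          · show θ (Subgroup.inclusion hRL r * g) _ = _
            rw [map_mul, MulAut.mul_apply]; rfl
      have hstep := hxp L Q hTL hidx hQT hLQ hxQ hzQ hJ
      set xW : ↥W := ⟨x, hxW⟩
      set c : ↥W := xW ^ p
      have hfp : ∀ η, f η ^ p = c := by
        intro η
        induction η using QuotientGroup.induction_on with
        | H g =>
          show θ g xW ^ p = c
          rw [← map_pow]
          refine Subtype.ext ?_
          rw [hθval, SubmonoidClass.coe_pow]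
          show (g : G) * x ^ p * (g : G)⁻¹ = x ^ p
          rw [(hstep g g.2).eq, mul_inv_cancel_right]
      by_cases htrans : ∀ ω, orbProd (⊤ : Subgroup ↥R) f ω =
          xW ^ (orbSet (⊤ : Subgroup ↥R) ω).card
      · have hprod := prod_eq_pow htrans
        intro g hg
        have hfix : θ ⟨g, hg⟩ (∏ η, f η) = ∏ η, f η := by
          rw [map_prod]
          refine Fintype.prod_equiv (MulAction.toPerm (⟨g, hg⟩ : ↥L)) _ _ fun η => ?_
          induction η using QuotientGroup.induction_on with
          | H k =>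
            show θ ⟨g, hg⟩ (θ k xW) = θ (⟨g, hg⟩ * k) xW
            rw [map_mul, MulAut.mul_apply]
        rw [hprod, map_pow] at hfix
        have hcop : Nat.Coprime (Fintype.card (↥L ⧸ T.subgroupOf L)) (orderOf xW) := by
          obtain ⟨k, hk⟩ := IsPGroup.iff_orderOf.mp (hT.to_le hWT) xW
          rw [hk]
          refine Nat.Coprime.pow_right k ?_
          rw [Nat.coprime_comm, hp.out.coprime_iff_not_dvd, ← Nat.card_eq_fintype_card]
          exact hidx
        have h1 : θ ⟨g, hg⟩ xW = xW := by
          have hord : orderOf (θ ⟨g, hg⟩ xW) = orderOf xW := MulEquiv.orderOf_eq _ _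
          obtain ⟨m, hm⟩ := exists_pow_eq_self_of_coprime hcop
          obtain ⟨m', hm'⟩ := exists_pow_eq_self_of_coprime (hord ▸ hcop :
            Nat.Coprime (Fintype.card (↥L ⧸ T.subgroupOf L)) (orderOf (θ ⟨g, hg⟩ xW)))
          have := congrArg (fun w => w ^ m) hfix
          simp only [← map_pow] at this
          rw [hm] at this
          exact this
        have h2 := congrArg Subtype.val h1
        rw [hθval] at h2
        exact mul_inv_eq_iff_eq_mul.mp h2
      push Not at htrans
      obtain ⟨ω, hω⟩ := htrans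
      -- `ω` lies outside `M`
      obtain ⟨g₀, rfl⟩ := QuotientGroup.mk_surjective ω
      set ω : ↥L ⧸ T.subgroupOf L := QuotientGroup.mk g₀
      have hDne : MulAction.stabilizer ↥R ω ≠ ⊤ := by
        intro htop
        apply hω
        have hsing : orbSet (⊤ : Subgroup ↥R) ω = {ω} := by
          ext η
          rw [mem_orbSet, Finset.mem_singleton]
          constructor
          · rintro ⟨r, rfl⟩
            show (r : ↥R) • ω = ω
            have hr : (r : ↥R) ∈ MulAction.stabilizer ↥R ω := by rw [htop]; exact Subgroup.mem_top _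
            exact hr
          · rintro rfl; exact MulAction.mem_orbit_self _
        rw [orbProd, hsing, Finset.prod_singleton, Finset.card_singleton, pow_one]
        refine Subtype.ext ?_
        show ((θ g₀ xW : ↥W) : G) = x
        rw [hθval]
        have hnR : (g₀ : G)⁻¹ ∈ Subgroup.normalizer (R : Set G) := by
          refine hRnorm _ (inv_mem g₀.2) fun r hr => ?_
          have := MulAction.mem_stabilizer_iff.mp (htop ▸ Subgroup.mem_top (⟨r, hr⟩ : ↥R))
          have h2 : (⟨r, hRL hr⟩ * g₀ : ↥L)⁻¹ * g₀ ∈ T.subgroupOf L := QuotientGroup.eq.mp this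
          have h3 : (g₀ : G)⁻¹ * r⁻¹ * g₀ ∈ T := by
            simpa [Subgroup.mem_subgroupOf, mul_assoc] using h2
          have h4 := inv_mem h3
          simpa [mul_assoc] using h4
        have := hM _ ⟨g₀.2, by simpa using inv_mem hnR⟩
        rw [this.eq, mul_inv_cancel_right]
      obtain ⟨K, hKco, hDK⟩ := (eq_top_or_exists_le_coatom (MulAction.stabilizer ↥R ω)).resolve_left hDne
      have hKn : K.Normal := PGroup.normal_of_isCoatom (hT.to_le hRT) hKco
      have hKidx : K.index = p := PGroup.index_eq_prime_of_isCoatom (hT.to_le hRT) hKco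
      haveI := hKn
      obtain ⟨A, hA, a, haA, haK⟩ : ∃ A ∈ best, ∃ a : ↥R, (a : G) ∈ A ∧ a ∉ K := by
        by_contra hcon
        push Not at hcon
        apply hKco.1
        rw [eq_top_iff]
        intro r _
        have hle : R ≤ K.map R.subtype := sSup_le fun B hB b hb =>
          ⟨⟨b, hAR B hB hb⟩, hcon B hB _ hb, rfl⟩
        obtain ⟨s, hs, hsr⟩ := hle r.2
        rwa [Subtype.ext hsr] at hs
      set u := orbProd K f ω
      set uz := orbProd K fz ω
      have hKfix : ∀ k ∈ K, θR k u = u ∧ θR k uz = uz := fun k hk =>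
        ⟨map_orbProd θR (fun r η => (hequiv r η).1) K ω hk,
          map_orbProd θR (fun r η => (hequiv r η).2) K ω hk⟩
      have hap : a ^ p ∈ K := by
        have : QuotientGroup.mk' K (a ^ p) = 1 := by
          rw [map_pow, ← hKidx, Subgroup.index]; exact pow_card_eq_one'
        exact (QuotientGroup.eq_one_iff _).mp this
      have hquad : ∀ w : ↥W, θR a (θR a w * w⁻¹) = θR a w * w⁻¹ := by
        intro w
        refine Subtype.ext ?_
        set e := ((θR a w * w⁻¹ : ↥W) : G) with he
        have hval : e = (a : G) * w * (a : G)⁻¹ * (w : G)⁻¹ := rfl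
        show (a : G) * e * (a : G)⁻¹ = e
        have heA : e ∈ A := by
          rw [hval, mul_assoc (a : G), mul_assoc (a : G)]
          exact A.mul_mem haA ((Subgroup.mem_normalizer_iff.mp (hnormA A hA w.2) _).mp (inv_mem haA))
        have hc : Commute (a : G) e :=
          congrArg Subtype.val (hA.1.1.2.1.is_comm.comm ⟨_, haA⟩ ⟨_, heA⟩)
        rw [hc.eq, mul_inv_cancel_right]
      have hgoodp : θR a u ≠ u ∧ p = 2 ∧ z ^ p ≠ x := by
        by_contra hcon
        apply hω
        refine orbit_step θR (fun r η => (hequiv r η).1) (c := c) rfl hfp ω K hDK hKidx haK ?_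
        by_cases hau : θR a u = u
        · have : ∀ i : ℕ, θR (a ^ i) u = u := by
            intro i
            induction i with
            | zero => simp
            | succ i ih => rw [pow_succ, map_mul, MulAut.mul_apply, hau, ih]
          rw [Finset.prod_congr rfl fun i _ => this i, Finset.prod_const, Finset.card_range]
        · have hp2 : p ≠ 2 := by
            intro hp2
            have hzp : z ^ p = x := by
              by_contra hzp; exact hcon ⟨hau, hp2, hzp⟩
            apply hau
            have hu : u = uz ^ p := by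
              simp only [u, uz, orbProd, ← Finset.prod_pow]
              refine Finset.prod_congr rfl fun η _ => ?_
              induction η using QuotientGroup.induction_on with
              | H g =>
                show θ g xW = θ g ⟨z, hzW⟩ ^ p
                rw [← map_pow]
                exact congrArg _ (Subtype.ext hzp.symm)
            obtain ⟨d, h1, h2⟩ : ∃ d : ↥W, θR a uz = d * uz ∧ θR a d = d :=
              ⟨θR a uz * uz⁻¹, (inv_mul_cancel_right _ _).symm, hquad uz⟩
            have key : ∀ i : ℕ, θR (a ^ i) uz = d ^ i * uz := by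
              intro i
              induction i with
              | zero => simp
              | succ i ih =>
                rw [pow_succ', map_mul, MulAut.mul_apply, ih, map_mul, map_pow, h2, h1, pow_succ,
                  mul_assoc]
            have hdp : d ^ p = 1 := mul_eq_right.mp ((key p).symm.trans (hKfix _ hap).2)
            rw [hu, map_pow, h1, mul_pow, hdp, one_mul]
          simp only [map_pow]
          exact prod_powers_eq_pow hp2 (θR a) (d := θR a u * u⁻¹)
            (inv_mul_cancel_right _ _).symm (hquad u) (by rw [← map_pow]; exact (hKfix _ hap).1)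
      obtain ⟨hau, hp2, hzp⟩ := hgoodp
      subst hp2
      have hS4 : ¬ Cfsg.Involves (Equiv.Perm (Fin 4)) G := by
        rcases h with h | h | h
        · exact absurd rfl h
        · exact absurd h hzp
        · exact h
      -- `a` induces a transvection on `W`
      have hAc := hA.1.1.2.1
      set B := A ⊓ K.map R.subtype with hBdef
      have hBu : ∀ b ∈ B, Commute b (u : G) := by
        rintro b ⟨-, k, hk, rfl⟩
        have := congrArg Subtype.val (hKfix k hk).1
        exact mul_inv_eq_iff_eq_mul.mp this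
      have haA' : (a : G) ∈ A := haA
      have hAB : Nat.card A ≤ 2 * Nat.card B := by
        have h1 : B.relIndex A ≤ 2 := by
          rw [hBdef, Subgroup.inf_relIndex_left]
          have hd : (K.map R.subtype).relIndex A ≤ (K.map R.subtype).relIndex R :=
            Subgroup.relIndex_le_of_le_right (hAR A hA) (by
              rw [Subgroup.relIndex, Subgroup.subgroupOf,
                Subgroup.comap_map_eq_self_of_injective R.subtype_injective, hKidx]; norm_num)
          refine hd.trans_eq ?_
          rw [Subgroup.relIndex, Subgroup.subgroupOf,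
            Subgroup.comap_map_eq_self_of_injective R.subtype_injective, hKidx]
        rw [← Subgroup.card_mul_index (B.subgroupOf A),
          Nat.card_congr (Subgroup.subgroupOfEquivOfLe (inf_le_left : B ≤ A)).toEquiv, mul_comm 2]
        exact Nat.mul_le_mul_left _ h1
      have hua : ¬ Commute (a : G) (u : G) := fun hcm => hau (Subtype.ext (by
        show (a : G) * (u : G) * (a : G)⁻¹ = u
        rw [hcm.eq, mul_inv_cancel_right]))
      set A' := B ⊔ (W ⊓ Subgroup.centralizer (B : Set G)) with hA'def
      have hA'c : IsMulCommutative A' := by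
        rw [← Subgroup.le_centralizer_iff_isMulCommutative, hA'def]
        refine sup_le (Subgroup.le_centralizer_iff.mp (sup_le ?_ inf_le_right))
          (Subgroup.le_centralizer_iff.mp (sup_le ?_ ?_))
        · exact Subgroup.le_centralizer_iff.mp fun b hb => Subgroup.mem_centralizer_iff.mpr fun c hc =>
            congrArg Subtype.val (hAc.is_comm.comm ⟨c, hc.1⟩ ⟨b, hb.1⟩)
        · exact Subgroup.le_centralizer_iff.mp inf_le_right
        · refine inf_le_left.trans ?_
          exact (Subgroup.le_centralizer_iff_isMulCommutative.mpr hWc).trans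
            (Subgroup.centralizer_le inf_le_left)
      have hA'T : A' ≤ T := sup_le (inf_le_left.trans hA.1.1.1) (inf_le_left.trans hWT)
      have huA' : (u : G) ∈ A' := Subgroup.mem_sup_right
        ⟨u.2, Subgroup.mem_centralizer_iff.mpr fun b hb => hBu b hb⟩
      have huA : (u : G) ∉ A := fun hu =>
        hua (congrArg Subtype.val (hAc.is_comm.comm ⟨_, haA⟩ ⟨_, hu⟩))
      have hAWB : A ⊓ W ≤ B := by
        intro w hw
        by_contra hwB
        apply hua
        have hAle : A ≤ B ⊔ Subgroup.zpowers w := by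
          have hlt : B < B ⊔ Subgroup.zpowers w := lt_of_le_of_ne le_sup_left fun he =>
            hwB (he.symm ▸ Subgroup.mem_sup_right (Subgroup.mem_zpowers w))
          have hle : B ⊔ Subgroup.zpowers w ≤ A :=
            sup_le inf_le_left (Subgroup.zpowers_le.mpr hw.1)
          obtain ⟨j, hj⟩ := IsPGroup.iff_card.mp ((hT.to_le hA.1.1.1))
          obtain ⟨i, -, hi⟩ := (Nat.dvd_prime_pow Nat.prime_two).mp
            (hj ▸ Subgroup.card_dvd_of_le hle)
          have hdvd := Subgroup.card_dvd_of_le hlt.le
          have hne : Nat.card B ≠ Nat.card ↥(B ⊔ Subgroup.zpowers w) := fun he =>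
            hlt.ne (Subgroup.eq_of_le_of_card_ge hlt.le he.ge)
          have h2 : 2 * Nat.card B ≤ Nat.card ↥(B ⊔ Subgroup.zpowers w) := by
            obtain ⟨q, hq⟩ := hdvd
            rw [hq] at hne ⊢
            rcases q with _ | _ | q
            · simp only [mul_zero] at hq; exact absurd hq Nat.card_pos.ne'
            · exact absurd (mul_one _).symm hne
            · rw [mul_comm 2]; exact Nat.mul_le_mul_left _ (by omega)
          exact (Subgroup.eq_of_le_of_card_ge hle (hAB.trans h2)).ge
        have hc : B ⊔ Subgroup.zpowers w ≤ Subgroup.centralizer ({(u : G)} : Set G) := by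
          refine sup_le (fun b hb => Subgroup.mem_centralizer_singleton_iff.mpr (hBu b hb).eq)
            (Subgroup.zpowers_le.mpr (Subgroup.mem_centralizer_singleton_iff.mpr ?_))
          exact congrArg Subtype.val (hWc.is_comm.comm ⟨w, hw.2⟩ u)
        exact Subgroup.mem_centralizer_singleton_iff.mp (hc (hAle haA))
      have hA'card : Nat.card A ≤ Nat.card A' := by
        refine hAB.trans ?_
        have hlt : B < A' := lt_of_le_of_ne le_sup_left fun he =>
          huA ((he.symm ▸ huA' : (u : G) ∈ B)).1
        obtain ⟨q, hq⟩ := Subgroup.card_dvd_of_le hlt.le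
        have hne : Nat.card B ≠ Nat.card A' := fun he =>
          hlt.ne (Subgroup.eq_of_le_of_card_ge hlt.le he.ge)
        rw [hq] at hne ⊢
        rcases q with _ | _ | q
        · simp only [mul_zero] at hq; exact absurd hq Nat.card_pos.ne'
        · exact absurd (mul_one _).symm hne
        · rw [mul_comm 2]; exact Nat.mul_le_mul_left _ (by omega)
      have hA'max : F.IsMax T A' :=
        ⟨hA'T, hA'c, fun D hD hgD => (hA.1.1.2.2 D hD hgD).trans hA'card⟩
      have hA'W : A' ≤ Subgroup.centralizer (W : Set G) := by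
        by_contra hnle
        have hlt : A ⊓ W < A' ⊓ W :=
          lt_of_le_of_ne (le_inf (hAWB.trans le_sup_left) inf_le_right) fun he =>
            huA (show (u : G) ∈ A ⊓ W by rw [he]; exact ⟨huA', u.2⟩).1
        exact not_lt.mpr (hA.2 A' ⟨hA'max, hnle⟩) (lt_of_le_of_ne (Subgroup.card_le_of_le hlt.le)
          fun he => hlt.ne (Subgroup.eq_of_le_of_card_ge hlt.le he.ge))
      have hWA' : W ≤ A' := habs A' hA'max hA'W
      have hBW : B ≤ Subgroup.centralizer (W : Set G) := le_sup_left.trans hA'W
      have hA'eq : A' = W ⊔ B :=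
        le_antisymm (sup_le le_sup_right (inf_le_left.trans le_sup_left))
          (sup_le hWA' le_sup_left)
      have hidx2 : (Subgroup.centralizer ({(a : G)} : Set G)).relIndex W ≤ 2 := by
        have hsub : W ⊓ B ≤ (Subgroup.centralizer ({(a : G)} : Set G)) ⊓ W := fun y hy =>
          ⟨Subgroup.mem_centralizer_singleton_iff.mpr
            (congrArg Subtype.val (hAc.is_comm.comm ⟨y, hy.2.1⟩ ⟨_, haA⟩)), hy.1⟩
        have hcard := PLocalB.card_sup_mul_card_inf B W (hTW.trans' (inf_le_left.trans hA.1.1.1))
        rw [sup_comm, ← hA'eq, inf_comm] at hcard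
        have hle : Nat.card W ≤ 2 * Nat.card ↥(W ⊓ B) := by
          have h3 : Nat.card B * Nat.card W ≤ Nat.card B * (2 * Nat.card ↥(W ⊓ B)) := by
            rw [← hcard, ← mul_assoc, mul_comm (Nat.card B) 2]
            exact Nat.mul_le_mul_right _ ((hA.1.1.2.2 A' hA'T hA'c).trans hAB)
          exact Nat.le_of_mul_le_mul_left h3 Nat.card_pos
        have h4 := Subgroup.card_le_of_le hsub
        rw [← Subgroup.inf_relIndex_right]
        have h5 := Subgroup.card_mul_index
          (((Subgroup.centralizer ({(a : G)} : Set G)) ⊓ W).subgroupOf W)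
        rw [Nat.card_congr (Subgroup.subgroupOfEquivOfLe (inf_le_right :
          (Subgroup.centralizer ({(a : G)} : Set G)) ⊓ W ≤ W)).toEquiv] at h5
        have h6 := Nat.card_pos (α := ↥((Subgroup.centralizer ({(a : G)} : Set G)) ⊓ W))
        refine Nat.le_of_mul_le_mul_left ?_ h6
        rw [Subgroup.relIndex, h5]
        linarith
      have ha2 : ∀ w ∈ W, (a : G) * a * w = w * ((a : G) * a) := by
        intro w hw
        have hmem : (a : G) * a ∈ B := ⟨mul_mem haA haA, ⟨a ^ 2, hap, by simp [pow_two]⟩⟩
        exact (Subgroup.mem_centralizer_iff.mp (hBW hmem) w hw).symm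
      obtain ⟨P, hPL, hLP, haP, hCP, hpow⟩ :=
        transvection hS4 hLW (hT.to_le hWT) hWc (hRL a.2) ha2 hidx2
      have hNlt : L ⊓ Subgroup.normalizer ((T ⊓ P : Subgroup G) : Set G) < L := by
        refine lt_of_le_of_ne inf_le_left fun he => hua ?_
        have := hcentW (T ⊓ P) inf_le_left (inf_eq_left.mp he) ⟨hA.1.1.1 haA, haP⟩
        exact (Subgroup.mem_centralizer_iff.mp this u u.2).symm
      intro g hg
      obtain ⟨d, hd, m, hm, hmN, rfl⟩ := frattini hTL hT hidx hPL hLP hg
      obtain ⟨cc, hcc, t, ht, rfl⟩ :=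
        frattini_pgroup hTL hT hidx hPL hLP hCP hLC hpow hd
      refine ((hCx cc hcc).mul_left ?_).mul_left (IH' _ hNlt (le_inf hTL ?_) m ⟨hm, hmN⟩)
      · exact (Subgroup.mem_centralizer_iff.mp hxC t ht.1)
      · intro t' ht'
        refine PLocalB.mem_normalizer_of_conj_mem _ t' ?_
        rintro y ⟨hyT, hyP⟩
        exact ⟨T.mul_mem (T.mul_mem ht' hyT) (T.inv_mem ht'),
          (Subgroup.mem_normalizer_iff.mp (hLP (hTL ht')) y).mp hyP⟩

/-- **Glauberman's lemma.** -/
theorem local_central {p : ℕ} [hp : Fact p.Prime] {T : Subgroup G} (hT : IsPGroup p T) :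
    ∀ (x z : G), x ∈ Subgroup.centralizer (T : Set G) → z ∈ Subgroup.centralizer (T : Set G) →
    (p ≠ 2 ∨ z ^ p = x ∨ ¬ Cfsg.Involves (Equiv.Perm (Fin 4)) G) →
    ∀ (L Q : Subgroup G), T ≤ L → ¬ p ∣ T.relIndex L → Q ≤ T →
      L ≤ Subgroup.normalizer (Q : Set G) → x ∈ Q → z ∈ Q →
      (∀ g ∈ L, g ∈ Subgroup.normalizer ((JA T : Subgroup G) : Set G) → Commute g x) →
      ∀ g ∈ L, Commute g x := by
  intro x
  induction hn : orderOf x using Nat.strong_induction_on generalizing x with
  | _ n IH =>
    intro z hxC hzC h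
    subst hn
    by_cases hx1 : x = 1
    · subst hx1; exact fun _ _ _ _ _ _ _ _ _ g _ => Commute.one_right g
    refine local_central_step hT x z hxC hzC h fun L Q hTL hidx hQT hLQ hxQ hzQ hJ => ?_
    refine IH (orderOf (x ^ p)) ?_ (x ^ p) rfl (z ^ p) (pow_mem hxC p) (pow_mem hzC p) ?_ L Q hTL
      hidx hQT hLQ (pow_mem hxQ p) (pow_mem hzQ p) fun g hg hgJ => (hJ g hg hgJ).pow_right p
    · obtain ⟨k, hk⟩ := IsPGroup.iff_orderOf.mp hT ⟨x, hQT hxQ⟩
      rw [Subgroup.orderOf_mk] at hk
      rcases k with _ | k
      · exact absurd (orderOf_eq_one_iff.mp (by simpa using hk)) hx1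
      · rw [orderOf_pow' _ hp.out.ne_zero, hk, Nat.gcd_eq_right (dvd_pow_self p k.succ_ne_zero)]
        exact Nat.div_lt_self (pow_pos hp.out.pos _) hp.out.one_lt
    · rcases h with h | h | h
      · exact Or.inl h
      · exact Or.inr (Or.inl (by rw [h]))
      · exact Or.inr (Or.inr h)

end Cfsg.Agent.WeakClosure
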