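import Mathlib
import Cfsg.Agent.WeakClosure.Local

/-!
Glauberman's theorem on weakly closed elements: an element of `S` central in `N(J(S))` is weakly
closed in `S`, for `p` odd, for `p`-th powers in `Z(S)`, and for `S₄`-free groups.
-/

set_option autoImplicit false
set_option linter.style.haveILetI false

namespace Cfsg.Agent.WeakClosure

open Cfsg

variable {G : Type*} [Group G] [Finite G]

local notation "JA" => Cfsg.thompsonSubgroupAOf

/-- A Sylow subgroup of `G` whose intersection with `N` is a Sylow subgroup of `N` containing the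
given `p`-subgroup. -/
theorem exists_sylow_inf {p : ℕ} [Fact p.Prime] (S : Sylow p G) (N U : Subgroup G) (hUN : U ≤ N)
    (hU : IsPGroup p U) :
    ∃ c : G, U ≤ ((c • S : Sylow p G) : Subgroup G) ∧
      ¬ p ∣ (((c • S : Sylow p G) : Subgroup G) ⊓ N).relIndex N := by
  obtain ⟨P₀, hP₀⟩ := (hU.comap_of_injective N.subtype N.subtype_injective :
    IsPGroup p ↥(U.subgroupOf N)).exists_le_sylow
  set V := (P₀ : Subgroup ↥N).map N.subtype
  obtain ⟨R, hR⟩ := (P₀.2.map N.subtype : IsPGroup p ↥V).exists_le_sylow
  obtain ⟨c, rfl⟩ := MulAction.exists_smul_eq G S R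
  refine ⟨c, fun u hu => hR ⟨⟨u, hUN hu⟩, hP₀ hu, rfl⟩, ?_⟩
  intro hd
  apply P₀.not_dvd_index
  refine hd.trans ?_
  rw [Subgroup.inf_relIndex_right, Subgroup.relIndex]
  refine Subgroup.index_dvd_of_le fun a ha => ?_
  exact hR ⟨a, ha, rfl⟩

theorem mem_smul_iff {p : ℕ} (S : Sylow p G) (c y : G) :
    y ∈ ((c • S : Sylow p G) : Subgroup G) ↔ c⁻¹ * y * c ∈ (S : Subgroup G) := by
  rw [Sylow.coe_subgroup_smul, Subgroup.mem_pointwise_smul_iff_inv_smul_mem]
  simp [MulAut.smul_def, mul_assoc]

theorem conj_mem_smul_iff {p : ℕ} (S : Sylow p G) (c y : G) :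
    c * y * c⁻¹ ∈ ((c • S : Sylow p G) : Subgroup G) ↔ y ∈ (S : Subgroup G) := by
  rw [mem_smul_iff]; simp [mul_assoc]

/-- **Glauberman's theorem on weakly closed elements.** -/
theorem weakly_closed {p : ℕ} [hp : Fact p.Prime] (S : Sylow p G) (x z : G)
    (hxS : x ∈ (S : Subgroup G)) (hxC : x ∈ Subgroup.centralizer ((S : Subgroup G) : Set G))
    (hzS : z ∈ (S : Subgroup G)) (hzC : z ∈ Subgroup.centralizer ((S : Subgroup G) : Set G))
    (h : p ≠ 2 ∨ z ^ p = x ∨ ¬ Cfsg.Involves (Equiv.Perm (Fin 4)) G)
    (hJ : ∀ g ∈ Subgroup.normalizer ((JA (S : Subgroup G) : Subgroup G) : Set G), Commute g x) :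
    ∀ g : G, g * x * g⁻¹ ∈ (S : Subgroup G) → g * x * g⁻¹ = x := by
  classical
  set s := Nat.card ↥(S : Subgroup G) with hs
  -- conjugates agree
  suffices H : ∀ d : ℕ, ∀ g : G, s - Nat.card ↥((S : Subgroup G) ⊓ ((g • S : Sylow p G) : Subgroup G)) = d →
      x ∈ ((g • S : Sylow p G) : Subgroup G) → g * x * g⁻¹ = x by
    intro g hg
    have h1 := H _ g⁻¹ rfl (by rw [mem_smul_iff, inv_inv]; exact hg)
    rw [inv_inv] at h1
    calc g * x * g⁻¹ = g * (g⁻¹ * x * g) * g⁻¹ := by rw [h1]
      _ = x := by group
  intro d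
  induction d using Nat.strong_induction_on with
  | _ d IH =>
    intro g hd hxg
    set D := (S : Subgroup G) ⊓ ((g • S : Sylow p G) : Subgroup G) with hD
    have hDp : IsPGroup p D := S.2.to_le inf_le_left
    have hDs : Nat.card D ≤ s := Subgroup.card_le_of_le inf_le_left
    have hxD : x ∈ D := ⟨hxS, hxg⟩
    by_cases hDS : Nat.card D = s
    · have hle : (S : Subgroup G) = D := (Subgroup.eq_of_le_of_card_ge inf_le_left hDS.ge).symm
      have hgS : (g • S : Sylow p G) = S := Sylow.ext
        (S.3 (g • S).2 (by rw [hle]; exact inf_le_right))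
      have hgN : g ∈ Subgroup.normalizer ((S : Subgroup G) : Set G) :=
        Sylow.smul_eq_iff_mem_normalizer.mp hgS
      rw [(hJ g (normalizer_le_normalizer_thompsonA _ hgN)).eq, mul_inv_cancel_right]
    -- what the induction gives
    have IH' : ∀ a b : G, ∀ E : Subgroup G, Nat.card D < Nat.card E →
        E ≤ ((a • S : Sylow p G) : Subgroup G) → E ≤ ((b • S : Sylow p G) : Subgroup G) →
        a * x * a⁻¹ ∈ ((b • S : Sylow p G) : Subgroup G) → a * x * a⁻¹ = b * x * b⁻¹ := by
      intro a b E hE hEa hEb hmem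
      have hcard : Nat.card E ≤ Nat.card ↥((S : Subgroup G) ⊓ (((a⁻¹ * b) • S : Sylow p G) : Subgroup G)) := by
        rw [← Subgroup.card_map_of_injective (K := E) (f := (MulAut.conj a⁻¹).toMonoidHom)
          (MulAut.conj a⁻¹).injective]
        refine Subgroup.card_le_of_le ?_
        rintro _ ⟨e, he, rfl⟩
        have h1 := (mem_smul_iff S a e).mp (hEa he)
        have h2 := (mem_smul_iff S b e).mp (hEb he)
        have he' : (MulAut.conj a⁻¹).toMonoidHom e = a⁻¹ * e * a := by simp
        rw [he']
        refine Subgroup.mem_inf.mpr ⟨h1, (mem_smul_iff S _ _).mpr ?_⟩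
        rwa [show (a⁻¹ * b)⁻¹ * (a⁻¹ * e * a) * (a⁻¹ * b) = b⁻¹ * e * b by group]
      have hle : Nat.card ↥((S : Subgroup G) ⊓ (((a⁻¹ * b) • S : Sylow p G) : Subgroup G)) ≤ s :=
        Subgroup.card_le_of_le inf_le_left
      have := IH _ (by omega) (a⁻¹ * b) rfl (by
        rw [mem_smul_iff] at hmem ⊢
        simpa [mul_assoc] using hmem)
      calc a * x * a⁻¹ = a * ((a⁻¹ * b) * x * (a⁻¹ * b)⁻¹) * a⁻¹ := by rw [this]
        _ = b * x * b⁻¹ := by group
    -- normalizers of larger Sylow intersection centralize `x`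
    have key : ∀ m : ℕ, ∀ E : Subgroup G, s - Nat.card ↥((S : Subgroup G) ⊓
          Subgroup.normalizer (E : Set G)) = m → E ≤ (S : Subgroup G) → x ∈ E →
        Nat.card D < Nat.card ↥((S : Subgroup G) ⊓ Subgroup.normalizer (E : Set G)) →
        ¬ p ∣ ((S : Subgroup G) ⊓ Subgroup.normalizer (E : Set G)).relIndex
          (Subgroup.normalizer (E : Set G)) →
        ∀ n ∈ Subgroup.normalizer (E : Set G), Commute n x := by
      intro m
      induction m using Nat.strong_induction_on with
      | _ m IHm =>
        intro E hm hES hxE hlt hidx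
        set N := Subgroup.normalizer (E : Set G) with hN
        set T := (S : Subgroup G) ⊓ N with hT
        have hxT : x ∈ T := ⟨hxS, Subgroup.le_normalizer hxE⟩
        have hTp : IsPGroup p T := S.2.to_le inf_le_left
        have hxCT : x ∈ Subgroup.centralizer (T : Set G) :=
          Subgroup.centralizer_le (show (T : Set G) ⊆ _ from fun y hy => hy.1) hxC
        have hzCT : z ∈ Subgroup.centralizer (T : Set G) :=
          Subgroup.centralizer_le (show (T : Set G) ⊆ _ from fun y hy => hy.1) hzC
        have hzN : z ∈ Subgroup.centralizer (E : Set G) := Subgroup.centralizer_le hES hzC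
        -- the normalizer of `J(T)`
        have hJT : ∀ n ∈ N, n ∈ Subgroup.normalizer ((JA T : Subgroup G) : Set G) → Commute n x := by
          intro n _ hnJ
          set E1 := JA T with hE1
          set T1 := (S : Subgroup G) ⊓ Subgroup.normalizer (E1 : Set G)
          have hTT1 : T ≤ T1 := le_inf inf_le_left
            (Subgroup.le_normalizer.trans (normalizer_le_normalizer_thompsonA T))
          obtain ⟨c, hcU, hcidx⟩ := exists_sylow_inf S _ T1 inf_le_right (S.2.to_le inf_le_left)
          have hlt1 : Nat.card D < Nat.card T1 := hlt.trans_le (Subgroup.card_le_of_le hTT1)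
          have hcx : c * x * c⁻¹ = x := by
            have := IH' 1 c T1 hlt1 (by rw [one_smul]; exact inf_le_left) hcU
              (by simpa using hcU (hTT1 hxT))
            simpa using this.symm
          set W := ((c • S : Sylow p G) : Subgroup G) ⊓ Subgroup.normalizer (E1 : Set G)
          set E1' := E1.map (MulAut.conj c⁻¹).toMonoidHom with hE1'
          have hNE : Subgroup.normalizer (E1' : Set G) =
              (Subgroup.normalizer (E1 : Set G)).map (MulAut.conj c⁻¹).toMonoidHom :=
            (Subgroup.map_equiv_normalizer_eq E1 (MulAut.conj c⁻¹)).symm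
          have hWmap : (S : Subgroup G) ⊓ Subgroup.normalizer (E1' : Set G) =
              W.map (MulAut.conj c⁻¹).toMonoidHom := by
            rw [hNE, Subgroup.map_inf _ _ _ (MulAut.conj c⁻¹).injective]
            congr 1
            ext y
            rw [Subgroup.mem_map_equiv, mem_smul_iff]
            simp [mul_assoc]
          have hcard : Nat.card ↥((S : Subgroup G) ⊓ Subgroup.normalizer (E1' : Set G)) =
              Nat.card W := by
            rw [hWmap]; exact Subgroup.card_map_of_injective (MulAut.conj c⁻¹).injective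
          have hT1W : T1 ≤ W := le_inf hcU inf_le_right
          by_cases hbig : Nat.card T < Nat.card W
          · have hWs : Nat.card ↥((S : Subgroup G) ⊓ Subgroup.normalizer (E1' : Set G)) ≤ s :=
              Subgroup.card_le_of_le inf_le_left
            have hx1 : c⁻¹ * x * c = x := by
              conv_lhs => rw [← hcx]
              group
            have := IHm _ (by omega) E1' rfl ?_ ?_ ?_ ?_ (c⁻¹ * n * c) ?_
            · have h2 := this.map (MulAut.conj c)
              simpa [mul_assoc, hcx] using (by simpa [hcx] using h2 : Commute (MulAut.conj c (c⁻¹ * n * c)) x)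
            · rintro _ ⟨e, he, rfl⟩
              have : e ∈ ((c • S : Sylow p G) : Subgroup G) :=
                hcU (hTT1 (thompsonA_le T he))
              rw [mem_smul_iff] at this
              simpa using this
            · exact ⟨x, mem_thompsonA_of_central hxT hxCT, by simpa using hx1⟩
            · rw [hcard]; exact hlt1.trans_le (Subgroup.card_le_of_le hT1W)
            · rw [hWmap, hNE, Subgroup.relIndex_map_map_of_injective _ _ (MulAut.conj c⁻¹).injective]
              exact hcidx
            · rw [hNE]; exact ⟨n, hnJ, by simp [mul_assoc]⟩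
          · have hWT : Nat.card W ≤ Nat.card T := not_lt.mp hbig
            have hT1T : T = T1 := Subgroup.eq_of_le_of_card_ge hTT1
              ((Subgroup.card_le_of_le hT1W).trans hWT)
            have hTS : T = (S : Subgroup G) := by
              by_contra hne
              have hlt' : (T.subgroupOf (S : Subgroup G)) < ⊤ := by
                rw [lt_top_iff_ne_top, Ne, Subgroup.subgroupOf_eq_top]
                exact fun hle => hne (le_antisymm inf_le_left hle)
              haveI := S.2.isNilpotent
              obtain ⟨⟨y, hyS⟩, hy, hyn⟩ := SetLike.exists_of_lt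
                (Group.normalizerCondition_of_isNilpotent _ hlt')
              apply hyn
              show y ∈ T
              rw [hT1T]
              refine ⟨hyS, normalizer_le_normalizer_thompsonA T ?_⟩
              refine PLocalB.mem_normalizer_of_conj_mem T y fun t ht => ?_
              exact (Subgroup.mem_normalizer_iff.mp hy ⟨t, ht.1⟩).mp ht
            rw [hE1, hTS] at hnJ
            exact hJ n hnJ
        -- Frattini for `C(E)`
        set C := N ⊓ Subgroup.centralizer (E : Set G)
        have hNC : N ≤ Subgroup.normalizer (C : Set G) := by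
          intro n hn
          refine PLocalB.mem_normalizer_of_conj_mem C n ?_
          rintro c ⟨hcN, hc⟩
          refine ⟨N.mul_mem (N.mul_mem hn hcN) (N.inv_mem hn),
            Subgroup.mem_centralizer_iff.mpr fun w hw => ?_⟩
          have hw' : n⁻¹ * w * n ∈ E := by
            simpa using (Subgroup.mem_normalizer_iff.mp (inv_mem hn) w).mp hw
          calc w * (n * c * n⁻¹) = n * ((n⁻¹ * w * n) * c) * n⁻¹ := by group
            _ = n * (c * (n⁻¹ * w * n)) * n⁻¹ := by rw [Subgroup.mem_centralizer_iff.mp hc _ hw']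
            _ = n * c * n⁻¹ * w := by group
        intro n hn
        obtain ⟨c, hc, m', hm'N, hm'n, rfl⟩ := frattini inf_le_right hTp hidx inf_le_left hNC hn
        refine Commute.mul_left (Subgroup.mem_centralizer_iff.mp hc.2 x hxE).symm ?_
        set L := N ⊓ Subgroup.normalizer ((T ⊓ C : Subgroup G) : Set G)
        have hTL : T ≤ L := le_inf inf_le_right fun t ht => by
          refine PLocalB.mem_normalizer_of_conj_mem _ t ?_
          rintro y ⟨hy, hyC⟩
          exact ⟨T.mul_mem (T.mul_mem ht hy) (T.inv_mem ht),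
            (Subgroup.mem_normalizer_iff.mp (hNC ht.2) y).mp hyC⟩
        have hzN' : z ∈ N := Subgroup.centralizer_le_normalizer _ hzN
        have hxEC : x ∈ Subgroup.centralizer (E : Set G) := Subgroup.centralizer_le hES hxC
        refine local_central hTp x z hxCT hzCT h L (T ⊓ C) hTL ?_ inf_le_left inf_le_right
          ⟨hxT, hxT.2, hxEC⟩ ⟨⟨hzS, hzN'⟩, hzN', hzN⟩
          (fun n hn hnJ => hJT n hn.1 hnJ) m' ⟨hm'N, hm'n⟩
        intro hd'
        exact hidx (hd'.trans (by
          rw [← Subgroup.relIndex_mul_relIndex T L N hTL inf_le_left]; exact dvd_mul_right _ _))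
    -- the two Sylow subgroups of `N(D)`
    set N := Subgroup.normalizer (D : Set G)
    have hDlt : Nat.card D < s := lt_of_le_of_ne hDs hDS
    have hgrow : ∀ P : Sylow p G, D ≤ (P : Subgroup G) →
        Nat.card D < Nat.card ↥((P : Subgroup G) ⊓ N) := by
      intro P hDP
      have hcP : Nat.card ↥(P : Subgroup G) = s := by
        rw [hs, Sylow.card_eq_multiplicity, Sylow.card_eq_multiplicity]
      have hlt' : (D.subgroupOf (P : Subgroup G)) < ⊤ := by
        rw [lt_top_iff_ne_top, Ne, Subgroup.subgroupOf_eq_top]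
        intro hle
        exact not_lt.mpr (hcP ▸ Subgroup.card_le_of_le hle) hDlt
      haveI := P.2.isNilpotent
      obtain ⟨⟨y, hyP⟩, hy, hyn⟩ := SetLike.exists_of_lt
        (Group.normalizerCondition_of_isNilpotent _ hlt')
      have hle : D ≤ (P : Subgroup G) ⊓ N := le_inf hDP Subgroup.le_normalizer
      refine lt_of_le_of_ne (Subgroup.card_le_of_le hle) fun he => hyn ?_
      show y ∈ D
      rw [Subgroup.eq_of_le_of_card_ge hle he.ge]
      refine ⟨hyP, PLocalB.mem_normalizer_of_conj_mem D y fun t ht => ?_⟩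
      exact (Subgroup.mem_normalizer_iff.mp hy ⟨t, hDP ht⟩).mp ht
    obtain ⟨c, hcU, hcidx⟩ := exists_sylow_inf S N ((S : Subgroup G) ⊓ N) inf_le_right
      (S.2.to_le inf_le_left)
    obtain ⟨e, heU, heidx⟩ := exists_sylow_inf S N (((g • S : Sylow p G) : Subgroup G) ⊓ N) inf_le_right
      ((g • S).2.to_le inf_le_left)
    have hS' := hgrow S inf_le_left
    have hg' := hgrow (g • S) inf_le_right
    have hxN : x ∈ (S : Subgroup G) ⊓ N := ⟨hxS, Subgroup.le_normalizer hxD⟩
    have hcx : c * x * c⁻¹ = x := by
      have := IH' 1 c _ hS' (by rw [one_smul]; exact inf_le_left) hcU (by simpa using hcU hxN)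
      simpa using this.symm
    have hgx : g * x * g⁻¹ = e * x * e⁻¹ := by
      refine IH' g e _ hg' inf_le_left heU (heU ⟨(conj_mem_smul_iff S g x).mpr hxS, ?_⟩)
      refine Subgroup.centralizer_le_normalizer _ (Subgroup.mem_centralizer_iff.mpr fun y hy => ?_)
      have hyg := (mem_smul_iff S g y).mp hy.2
      calc y * (g * x * g⁻¹) = g * ((g⁻¹ * y * g) * x) * g⁻¹ := by group
        _ = g * (x * (g⁻¹ * y * g)) * g⁻¹ := by rw [Subgroup.mem_centralizer_iff.mp hxC _ hyg]
        _ = g * x * g⁻¹ * y := by group
    -- `N` centralizes `x`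
    have hNx : ∀ n ∈ N, Commute n x := by
      set D' := D.map (MulAut.conj c⁻¹).toMonoidHom
      have hND : Subgroup.normalizer (D' : Set G) = N.map (MulAut.conj c⁻¹).toMonoidHom :=
        (Subgroup.map_equiv_normalizer_eq D (MulAut.conj c⁻¹)).symm
      have hUmap : (S : Subgroup G) ⊓ Subgroup.normalizer (D' : Set G) =
          (((c • S : Sylow p G) : Subgroup G) ⊓ N).map (MulAut.conj c⁻¹).toMonoidHom := by
        rw [hND, Subgroup.map_inf _ _ _ (MulAut.conj c⁻¹).injective]
        congr 1
        ext y
        rw [Subgroup.mem_map_equiv, mem_smul_iff]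
        simp [mul_assoc]
      have hx1 : c⁻¹ * x * c = x := by
        conv_lhs => rw [← hcx]
        group
      intro n hn
      have := key _ D' rfl ?_ ?_ ?_ ?_ (c⁻¹ * n * c) ?_
      · have h2 := this.map (MulAut.conj c)
        simpa [mul_assoc, hcx] using (by simpa [hcx] using h2 : Commute (MulAut.conj c (c⁻¹ * n * c)) x)
      · rintro _ ⟨t, ht, rfl⟩
        have : t ∈ ((c • S : Sylow p G) : Subgroup G) := hcU ⟨ht.1, Subgroup.le_normalizer ht⟩
        rw [mem_smul_iff] at this
        simpa using this
      · exact ⟨x, hxD, by simpa using hx1⟩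
      · rw [hUmap, Subgroup.card_map_of_injective (MulAut.conj c⁻¹).injective]
        exact hS'.trans_le (Subgroup.card_le_of_le (le_inf hcU inf_le_right))
      · rw [hUmap, hND, Subgroup.relIndex_map_map_of_injective _ _ (MulAut.conj c⁻¹).injective]
        exact hcidx
      · rw [hND]; exact ⟨n, hn, by simp [mul_assoc]⟩
    -- move one to the other
    set U1 := ((c • S : Sylow p G) : Subgroup G) ⊓ N
    set U2 := ((e • S : Sylow p G) : Subgroup G) ⊓ N
    have hU1p : IsPGroup p ↥(U1.subgroupOf N) :=
      ((c • S).2.to_le inf_le_left : IsPGroup p ↥U1).comap_of_injective N.subtype N.subtype_injective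
    have hU2p : IsPGroup p ↥(U2.subgroupOf N) :=
      ((e • S).2.to_le inf_le_left : IsPGroup p ↥U2).comap_of_injective N.subtype N.subtype_injective
    obtain ⟨n, hn⟩ := MulAction.exists_smul_eq ↥N (hU1p.toSylow hcidx) (hU2p.toSylow heidx)
    have hU2le : U2 ≤ (((n : G) * c) • S : Sylow p G) := by
      intro y hy
      have hy' : (⟨y, hy.2⟩ : ↥N) ∈ (n • hU1p.toSylow hcidx : Sylow p ↥N) := hn.symm ▸ (show
        (⟨y, hy.2⟩ : ↥N) ∈ (hU2p.toSylow heidx : Sylow p ↥N) from hy)
      rw [← SetLike.mem_coe, Sylow.coe_smul, Set.mem_smul_set_iff_inv_smul_mem, SetLike.mem_coe] at hy'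
      rw [mem_smul_iff]
      have h2 : (n : G)⁻¹ * y * n ∈ ((c • S : Sylow p G) : Subgroup G) := by
        have h3 := (show _ ∈ U1.subgroupOf N from hy')
        have h4 := (Subgroup.mem_inf.mp (Subgroup.mem_subgroupOf.mp h3)).1
        convert h4 using 1
        simp [MulAut.smul_def, mul_assoc]
      rw [mem_smul_iff] at h2
      simpa [mul_assoc] using h2
    have hnx : ((n : G) * c) * x * ((n : G) * c)⁻¹ = x :=
      calc ((n : G) * c) * x * ((n : G) * c)⁻¹ = (n : G) * (c * x * c⁻¹) * (n : G)⁻¹ := by group
        _ = x := by rw [hcx, (hNx n n.2).eq, mul_inv_cancel_right]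
    have hbig : Nat.card D < Nat.card U2 :=
      hg'.trans_le (Subgroup.card_le_of_le (le_inf heU inf_le_right))
    have := IH' ((n : G) * c) e U2 hbig hU2le inf_le_left (by
      rw [hnx]; exact heU ⟨hxg, Subgroup.le_normalizer hxD⟩)
    rw [hgx, ← this, hnx]

end Cfsg.Agent.WeakClosure
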