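import Mathlib

/-!
The fixed points of an overgroup split off the centre of a Sylow subgroup.
-/

set_option autoImplicit false
set_option linter.style.haveILetI false

namespace Cfsg.Agent.WeakClosure

variable {G : Type*} [Group G] [Finite G]

/-- If `Z` lies in an abelian subgroup `A ≤ S` normalized by `N ≥ S`, is centralized by `S`, and
`A ⊓ C(N) ≤ Z`, then `A ⊓ C(N)` is a direct factor of `Z`. -/
theorem exists_complement {p : ℕ} [hp : Fact p.Prime] {S N A Z : Subgroup G} (hS : IsPGroup p S)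
    (hSN : S ≤ N) (hidx : ¬ p ∣ S.relIndex N) (hAS : A ≤ S)
    (hNA : N ≤ Subgroup.normalizer (A : Set G)) (hAc : IsMulCommutative A) (hZA : Z ≤ A)
    (hSZ : Z ≤ Subgroup.centralizer (S : Set G))
    (hW : A ⊓ Subgroup.centralizer (N : Set G) ≤ Z) :
    ∃ K : Subgroup G, K ≤ Z ∧ (A ⊓ Subgroup.centralizer (N : Set G)) ⊓ K = ⊥ ∧
      (A ⊓ Subgroup.centralizer (N : Set G)) ⊔ K = Z := by
  classical
  set W := A ⊓ Subgroup.centralizer (N : Set G) with hWdef
  haveI : Fintype (↥N ⧸ S.subgroupOf N) := Fintype.ofFinite _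
  letI : CommGroup ↥A := { (inferInstance : Group ↥A) with mul_comm := hAc.is_comm.comm }
  let θ : ↥N →* MulAut ↥A := A.normalizerMonoidHom.comp (Subgroup.inclusion hNA)
  have hθval : ∀ (g : ↥N) (a : ↥A), ((θ g a : ↥A) : G) = g * a * (g : G)⁻¹ := fun g a => rfl
  let f : ↥Z → ↥N ⧸ S.subgroupOf N → ↥A := fun z =>
    Quotient.lift (fun g => θ g ⟨z, hZA z.2⟩) (by
      intro a b hab
      have hab' : QuotientGroup.leftRel (S.subgroupOf N) a b := hab
      rw [QuotientGroup.leftRel_apply] at hab'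
      refine Subtype.ext ?_
      rw [hθval, hθval]
      have := Subgroup.mem_centralizer_iff.mp (hSZ z.2) ((a : G)⁻¹ * b) hab'
      calc (a : G) * z * (a : G)⁻¹ = (a : G) * ((z : G) * ((a : G)⁻¹ * b)) * (b : G)⁻¹ := by group
        _ = (a : G) * (((a : G)⁻¹ * b) * (z : G)) * (b : G)⁻¹ := by rw [this]
        _ = (b : G) * z * (b : G)⁻¹ := by group)
  have hfmul : ∀ (y z : ↥Z) η, f (y * z) η = f y η * f z η := by
    intro y z η
    induction η using QuotientGroup.induction_on with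
    | H g =>
      show θ g _ = θ g _ * θ g _
      rw [← map_mul]; rfl
  let φ : ↥Z →* ↥A := MonoidHom.mk' (fun z => ∏ η, f z η) fun y z => by
    rw [← Finset.prod_mul_distrib]; exact Finset.prod_congr rfl fun η _ => hfmul y z η
  have hφW : ∀ z, ((φ z : ↥A) : G) ∈ W := by
    intro z
    refine ⟨(φ z).2, Subgroup.mem_centralizer_iff.mpr fun g hg => ?_⟩
    have hfix : θ ⟨g, hg⟩ (φ z) = φ z := by
      show θ ⟨g, hg⟩ (∏ η, f z η) = _
      rw [map_prod]
      refine Fintype.prod_equiv (MulAction.toPerm (⟨g, hg⟩ : ↥N)) _ _ fun η => ?_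
      induction η using QuotientGroup.induction_on with
      | H k =>
        show θ ⟨g, hg⟩ (θ k _) = θ (⟨g, hg⟩ * k) _
        rw [map_mul, MulAut.mul_apply]
    have h2 := congrArg Subtype.val hfix
    rw [hθval] at h2
    exact mul_inv_eq_iff_eq_mul.mp h2
  set m := Fintype.card (↥N ⧸ S.subgroupOf N) with hm
  have hφfix : ∀ (z : ↥Z), (z : G) ∈ W → ((φ z : ↥A) : G) = (z : G) ^ m := by
    intro z hz
    have : ∀ η, f z η = ⟨z, hZA z.2⟩ := by
      intro η
      induction η using QuotientGroup.induction_on with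
      | H g =>
        show θ g _ = _
        refine Subtype.ext ?_
        rw [hθval]
        show (g : G) * z * (g : G)⁻¹ = z
        rw [Subgroup.mem_centralizer_iff.mp hz.2 g g.2, mul_inv_cancel_right]
    show ((∏ η, f z η : ↥A) : G) = _
    rw [Finset.prod_congr rfl fun η _ => this η, Finset.prod_const, SubmonoidClass.coe_pow]
    rfl
  have hcop : ∀ w ∈ W, m.Coprime (orderOf w) := by
    intro w hw
    obtain ⟨k, hk⟩ := IsPGroup.iff_orderOf.mp hS ⟨w, hAS hw.1⟩
    rw [Subgroup.orderOf_mk] at hk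
    rw [hk]
    refine Nat.Coprime.pow_right k ?_
    rw [Nat.coprime_comm, hp.out.coprime_iff_not_dvd, hm, ← Nat.card_eq_fintype_card]
    exact hidx
  refine ⟨φ.ker.map Z.subtype, Subgroup.map_subtype_le _, ?_, ?_⟩
  · rw [eq_bot_iff]
    rintro _ ⟨hwW, z, hz, rfl⟩
    obtain ⟨j, hj⟩ := exists_pow_eq_self_of_coprime (hcop _ hwW)
    have h0 : (z : G) ^ m = 1 := by
      rw [← hφfix z hwW, MonoidHom.mem_ker.mp hz]; rfl
    refine Subgroup.mem_bot.mpr ?_
    rw [← hj]
    show ((z : G) ^ m) ^ j = 1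
    rw [h0, one_pow]
  · refine le_antisymm (sup_le hW (Subgroup.map_subtype_le _)) fun z hz => ?_
    set w := ((φ ⟨z, hz⟩ : ↥A) : G)
    obtain ⟨j, hj⟩ := exists_pow_eq_self_of_coprime (hcop w (hφW _))
    have hwj : w ^ j ∈ W := pow_mem (hφW _) j
    have hker : (⟨z, hz⟩ : ↥Z) * ⟨(w ^ j)⁻¹, inv_mem (hW hwj)⟩ ∈ φ.ker := by
      rw [MonoidHom.mem_ker, map_mul]
      refine Subtype.ext ?_
      rw [Subgroup.coe_mul, hφfix ⟨(w ^ j)⁻¹, _⟩ (inv_mem hwj)]
      show w * ((w ^ j)⁻¹) ^ m = 1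
      rw [inv_pow, ← pow_mul, mul_comm, pow_mul, hj, mul_inv_cancel]
    have := Subgroup.mul_mem_sup hwj (Subgroup.mem_map_of_mem Z.subtype hker)
    convert this using 1
    show z = w ^ j * (z * (w ^ j)⁻¹)
    have hcm : Commute z (w ^ j) :=
      congrArg Subtype.val (hAc.is_comm.comm ⟨z, hZA hz⟩ ⟨w ^ j, hwj.1⟩)
    rw [hcm.inv_right.eq, mul_inv_cancel_left]

end Cfsg.Agent.WeakClosure
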